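import Cfsg.Agent.S0215
import Cfsg.Agent.CISylow69.Local
import Cfsg.Prelude.Def_CaseTheorems
import Cfsg.Agent.Lib.Thompson.Cores
import Cfsg.Agent.Lib.Transfer.PClasses

/-!
# Isolated `2`-elements central in a Sylow subgroup are central
-/

set_option autoImplicit false
set_option linter.style.haveILetI false

namespace Cfsg.Agent.CG26.HalfK2

open scoped Pointwise

universe u

/-- A power of an element isolated in `P` is isolated. -/
theorem isolated_pow {G : Type u} [Group G] [Finite G] (P : Sylow 2 G) {x : G}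
    (hxc : ∀ a ∈ (P : Subgroup G), a * x = x * a) (hxP : x ∈ (P : Subgroup G))
    (hiso : ∀ g : G, g * x * g⁻¹ ∈ (P : Subgroup G) → g * x * g⁻¹ = x) (m : ℕ) (g : G)
    (hg : g * x ^ m * g⁻¹ ∈ (P : Subgroup G)) : g * x ^ m * g⁻¹ = x ^ m := by
  haveI : Fact (Nat.Prime 2) := ⟨Nat.prime_two⟩
  set y := g * x ^ m * g⁻¹ with hy
  set C := Subgroup.centralizer ({x ^ m} : Set G)
  have hPC : (P : Subgroup G) ≤ C := fun a ha =>
    Subgroup.mem_centralizer_singleton_iff.mpr (Commute.pow_right (hxc a ha) m)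
  have hwC : g⁻¹ * x * g ∈ C := by
    rw [Subgroup.mem_centralizer_singleton_iff]
    have h1 : y * x = x * y := hxc y hg
    calc g⁻¹ * x * g * x ^ m = g⁻¹ * (x * y) * g := by rw [hy]; group
      _ = g⁻¹ * (y * x) * g := by rw [h1]
      _ = x ^ m * (g⁻¹ * x * g) := by rw [hy]; group
  obtain ⟨k, hk⟩ := P.2 ⟨x, hxP⟩
  have hk' : x ^ 2 ^ k = 1 := congrArg Subtype.val hk
  obtain ⟨e, -, he⟩ := (Nat.dvd_prime_pow Nat.prime_two).mp (orderOf_dvd_of_pow_eq_one hk')
  have how : orderOf (⟨g⁻¹ * x * g, hwC⟩ : C) = 2 ^ e := by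
    rw [Subgroup.orderOf_mk, ← he]
    simpa [mul_assoc] using (MulEquiv.orderOf_eq (MulAut.conj g⁻¹) x)
  obtain ⟨c, hc⟩ := Transfer.exists_conj_mem_sylow (P.subtype hPC) how
  have hc' : (c : G) * (g⁻¹ * x * g) * (c : G)⁻¹ ∈ (P : Subgroup G) := by
    rw [Sylow.coe_subtype, Subgroup.mem_subgroupOf] at hc
    simpa using hc
  have h2 := hiso ((c : G) * g⁻¹) (by simpa [mul_assoc] using hc')
  have h3 : ((c : G) * g⁻¹) * x ^ m * ((c : G) * g⁻¹)⁻¹ = x ^ m := by
    rw [← conj_pow, h2]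
  have h4 : ((c : G) * g⁻¹) * y * ((c : G) * g⁻¹)⁻¹ = x ^ m := by
    have h5 : (c : G) * x ^ m = x ^ m * c := Subgroup.mem_centralizer_singleton_iff.mp c.2
    calc ((c : G) * g⁻¹) * y * ((c : G) * g⁻¹)⁻¹ = ((c : G) * x ^ m) * (c : G)⁻¹ := by rw [hy]; group
      _ = x ^ m := by rw [h5, mul_inv_cancel_right]
  exact mul_left_cancel (mul_right_cancel (h4.trans h3.symm))

theorem mem_center_of_isolated_aux : ∀ (N : ℕ) (G : Type u) [Group G] [Finite G], Nat.card G = N →
    Cfsg.pPrimeCore 2 G = ⊥ → ∀ (P : Sylow 2 G) (x : G), x ∈ (P : Subgroup G) →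
      (∀ a ∈ (P : Subgroup G), a * x = x * a) →
      (∀ g : G, g * x * g⁻¹ ∈ (P : Subgroup G) → g * x * g⁻¹ = x) → x ∈ Subgroup.center G := by
  intro N
  induction N using Nat.strong_induction_on with
  | _ N ih =>
  intro G _ _ hN hO P x hxP hxc hiso
  haveI : Fact (Nat.Prime 2) := ⟨Nat.prime_two⟩
  obtain ⟨k, hk⟩ := P.2 ⟨x, hxP⟩
  have hk' : x ^ 2 ^ k = 1 := congrArg Subtype.val hk
  obtain ⟨e, -, he⟩ := (Nat.dvd_prime_pow Nat.prime_two).mp (orderOf_dvd_of_pow_eq_one hk')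
  rcases e with _ | e
  · rw [orderOf_eq_one_iff.mp he]; exact one_mem _
  set t := x ^ 2 ^ e with ht
  have hto : orderOf t = 2 := by
    rw [ht, orderOf_pow' x (by positivity), he, Nat.gcd_eq_right (pow_dvd_pow 2 (by omega)),
      Nat.pow_div (by omega) (by norm_num)]
    simp
  have htP : t ∈ (P : Subgroup G) := pow_mem hxP _
  obtain ⟨M, hMn, hModd, hM⟩ := Cfsg.Agent.S0215.result P t hto htP
    (isolated_pow P hxc hxP hiso _)
  have hMb : M = ⊥ := le_bot_iff.mp (hO ▸ Thompson.le_pPrimeCore hMn (Nat.coprime_two_right.mpr hModd))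
  have htZ : t ∈ Subgroup.center G := Subgroup.mem_center_iff.mpr fun g => by
    have h1 := hM g
    rw [hMb, Subgroup.mem_bot, mul_inv_eq_one, mul_inv_eq_iff_eq_mul] at h1
    exact h1.symm
  let A := Subgroup.zpowers t
  have hAc : A ≤ Subgroup.center G := Subgroup.zpowers_le.mpr htZ
  haveI : A.Normal := ⟨fun a ha g => by rwa [Subgroup.mem_center_iff.mp (hAc ha) g, mul_inv_cancel_right]⟩
  have hA2 : Nat.card A = 2 := by rw [Nat.card_zpowers, hto]
  have hAP : A ≤ (P : Subgroup G) := Subgroup.zpowers_le.mpr htP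
  have hlt : Nat.card (G ⧸ A) < N := by
    rw [← hN, Subgroup.card_eq_card_quotient_mul_card_subgroup A, hA2]
    have : 0 < Nat.card (G ⧸ A) := Nat.card_pos
    omega
  let π := QuotientGroup.mk' A
  have hsurj : Function.Surjective π := QuotientGroup.mk'_surjective A
  have hmemP : ∀ a : G, π a ∈ (P : Subgroup G).map π → a ∈ (P : Subgroup G) := by
    rintro a ⟨b, hb, hab⟩
    have h1 : b⁻¹ * a ∈ A := QuotientGroup.eq.mp hab
    have := mul_mem hb (hAP h1)
    rwa [mul_inv_cancel_left] at this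
  have hbar : π x ∈ Subgroup.center (G ⧸ A) := by
    refine ih _ hlt (G ⧸ A) rfl
      (CISylow69.oddCore_quotient_central A (IsPGroup.of_card (n := 1) (by rw [hA2, pow_one])) hAc hO)
      (P.mapSurjective hsurj) (π x) ?_ ?_ ?_
    · rw [Sylow.coe_mapSurjective]; exact Subgroup.mem_map_of_mem π hxP
    · rw [Sylow.coe_mapSurjective]
      rintro _ ⟨a, ha, rfl⟩
      rw [← map_mul, ← map_mul, hxc a ha]
    · rw [Sylow.coe_mapSurjective]
      intro q hq
      obtain ⟨g, rfl⟩ := hsurj q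
      rw [← map_inv, ← map_mul, ← map_mul] at hq ⊢
      rw [hiso g (hmemP _ hq)]
  rw [Subgroup.mem_center_iff]
  intro g
  have h1 : π (g * x * g⁻¹) = π x := by
    rw [map_mul, map_mul, map_inv, Subgroup.mem_center_iff.mp hbar (π g), mul_inv_cancel_right]
  have h2 := hiso g (hmemP _ (h1 ▸ Subgroup.mem_map_of_mem π hxP))
  exact mul_inv_eq_iff_eq_mul.mp h2

theorem mem_center_of_isolated {G : Type u} [Group G] [Finite G] (hO : Cfsg.pPrimeCore 2 G = ⊥)
    (P : Sylow 2 G) {x : G} (hxP : x ∈ (P : Subgroup G))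
    (hxc : ∀ a ∈ (P : Subgroup G), a * x = x * a)
    (hiso : ∀ g : G, g * x * g⁻¹ ∈ (P : Subgroup G) → g * x * g⁻¹ = x) : x ∈ Subgroup.center G :=
  mem_center_of_isolated_aux _ G rfl hO P x hxP hxc hiso

end Cfsg.Agent.CG26.HalfK2
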