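import Cfsg.Agent.CG26.HalfK2.Count
import Cfsg.Agent.CG26.HalfK2.Isolated
import Cfsg.Agent.Lib.Transfer.Residual

/-!
# `2`-groups with derived group of order two, and the basic consequences of `2 k₂ = |P|`
-/

set_option autoImplicit false
set_option linter.unusedSectionVars false
set_option linter.style.haveILetI false

namespace Cfsg.Agent.CG26.HalfK2

open scoped Pointwise

universe u

/-- Every commutator is `1` or `c`, where `c ≠ 1` is itself a commutator and an involution. -/
structure DerTwo (R : Type u) [Group R] (c : R) : Prop where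
  ne : c ≠ 1
  sq : c * c = 1
  mem : ∀ a b : R, a * b * a⁻¹ * b⁻¹ = 1 ∨ a * b * a⁻¹ * b⁻¹ = c
  is_comm : ∃ a b : R, a * b * a⁻¹ * b⁻¹ = c

namespace DerTwo

variable {R : Type u} [Group R] {c : R}

theorem central (h : DerTwo R c) : c ∈ Subgroup.center R := by
  rw [Subgroup.mem_center_iff]
  intro b
  rcases h.mem b c with h1 | h1
  · exact mul_inv_eq_iff_eq_mul.mp (mul_inv_eq_one.mp h1)
  · exact absurd (conj_eq_one_iff.mp
      (show b * c * b⁻¹ = 1 by rw [mul_inv_eq_iff_eq_mul.mp h1, h.sq])) h.ne

theorem conj_cases (h : DerTwo R c) (g x : R) : g * x * g⁻¹ = x ∨ g * x * g⁻¹ = c * x := by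
  rcases h.mem g x with h1 | h1
  · exact Or.inl (mul_inv_eq_one.mp h1)
  · exact Or.inr (mul_inv_eq_iff_eq_mul.mp h1)

theorem eq_or_of_mk_eq (h : DerTwo R c) {x y : R} (hxy : ConjClasses.mk x = ConjClasses.mk y) :
    y = x ∨ y = c * x := by
  obtain ⟨g, rfl⟩ := isConj_iff.mp (ConjClasses.mk_eq_mk_iff_isConj.mp hxy)
  exact h.conj_cases g x

theorem two_mul_card_classes (h : DerTwo R c) [Finite R] :
    2 * Nat.card (ConjClasses R) = Nat.card R + Nat.card (Subgroup.center R) := by
  classical
  haveI : Fintype R := Fintype.ofFinite R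
  haveI : Fintype (ConjClasses R) := Fintype.ofFinite _
  set Zc := (Finset.univ.filter fun x : R => x ∈ Subgroup.center R).image ConjClasses.mk with hZc
  have hinj : Set.InjOn (ConjClasses.mk : R → ConjClasses R)
      ↑(Finset.univ.filter fun x : R => x ∈ Subgroup.center R) := by
    intro a ha b hb hab
    obtain ⟨g, rfl⟩ := isConj_iff.mp (ConjClasses.mk_eq_mk_iff_isConj.mp hab)
    simp only [Finset.coe_filter, Finset.mem_univ, true_and, Set.mem_ofPred_eq] at ha
    rw [Subgroup.mem_center_iff.mp ha g, mul_inv_cancel_right]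
  have hZcard : Zc.card = Nat.card (Subgroup.center R) := by
    rw [hZc, Finset.card_image_of_injOn hinj, Nat.card_eq_fintype_card, Fintype.card_subtype]
  have hfib : ∀ C : ConjClasses R,
      (Finset.univ.filter fun x : R => ConjClasses.mk x = C).card +
        (if C ∈ Zc then 1 else 0) = 2 := by
    intro C
    induction C using Quotient.inductionOn with
    | _ x =>
    show (Finset.univ.filter fun y : R => ConjClasses.mk y = ConjClasses.mk x).card +
        (if ConjClasses.mk x ∈ Zc then 1 else 0) = 2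
    by_cases hx : x ∈ Subgroup.center R
    · have hin : ConjClasses.mk x ∈ Zc :=
        Finset.mem_image_of_mem _ (Finset.mem_filter.mpr ⟨Finset.mem_univ _, hx⟩)
      rw [if_pos hin, Finset.card_eq_one.mpr ⟨x, ?_⟩]
      ext y
      simp only [Finset.mem_filter, Finset.mem_univ, true_and, Finset.mem_singleton]
      refine ⟨fun hy => ?_, fun hy => by rw [hy]⟩
      obtain ⟨g, rfl⟩ := isConj_iff.mp (ConjClasses.mk_eq_mk_iff_isConj.mp hy.symm)
      rw [Subgroup.mem_center_iff.mp hx g, mul_inv_cancel_right]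
    · have hout : ConjClasses.mk x ∉ Zc := by
        intro hin
        obtain ⟨z, hz, hzx⟩ := Finset.mem_image.mp hin
        obtain ⟨g, rfl⟩ := isConj_iff.mp (ConjClasses.mk_eq_mk_iff_isConj.mp hzx)
        refine hx ?_
        rw [Subgroup.mem_center_iff.mp (Finset.mem_filter.mp hz).2 g, mul_inv_cancel_right]
        exact (Finset.mem_filter.mp hz).2
      rw [if_neg hout, add_zero, Finset.card_eq_two]
      refine ⟨x, c * x, fun e => h.ne (mul_eq_right.mp e.symm), ?_⟩
      ext y
      simp only [Finset.mem_filter, Finset.mem_univ, true_and, Finset.mem_insert,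
        Finset.mem_singleton]
      refine ⟨fun hy => h.eq_or_of_mk_eq hy.symm, ?_⟩
      rintro (rfl | rfl)
      · rfl
      · obtain ⟨g, hg⟩ : ∃ g : R, g * x * g⁻¹ = c * x := by
          by_contra hne
          push Not at hne
          exact hx (Subgroup.mem_center_iff.mpr fun g =>
            mul_inv_eq_iff_eq_mul.mp ((h.conj_cases g x).resolve_right (hne g)))
        exact (ConjClasses.mk_eq_mk_iff_isConj.mpr (isConj_iff.mpr ⟨g, hg⟩)).symm
  have h1 : Fintype.card R =
      ∑ C : ConjClasses R, (Finset.univ.filter fun x : R => ConjClasses.mk x = C).card :=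
    Finset.card_eq_sum_card_fiberwise fun x _ => Finset.mem_univ _
  have h2 : ∑ C : ConjClasses R, (if C ∈ Zc then 1 else 0) = Zc.card := by
    rw [Finset.sum_ite_mem, Finset.univ_inter, Finset.sum_const, smul_eq_mul, mul_one]
  have h3 := Finset.sum_congr rfl fun C (_ : C ∈ (Finset.univ : Finset (ConjClasses R))) => hfib C
  rw [Finset.sum_add_distrib, ← h1, h2, Finset.sum_const, smul_eq_mul, Finset.card_univ] at h3
  rw [Nat.card_eq_fintype_card (α := ConjClasses R), Nat.card_eq_fintype_card (α := R), ← hZcard]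
  omega

theorem four_mul_center_le (h : DerTwo R c) [Finite R] (hp : IsPGroup 2 R) :
    4 * Nat.card (Subgroup.center R) ≤ Nat.card R := by
  haveI : Fact (Nat.Prime 2) := ⟨Nat.prime_two⟩
  obtain ⟨n, hn⟩ := IsPGroup.iff_card.mp (hp.to_quotient (Subgroup.center R))
  rw [Subgroup.card_eq_card_quotient_mul_card_subgroup (Subgroup.center R), hn]
  refine Nat.mul_le_mul_right _ ?_
  by_contra hlt
  haveI : IsCyclic (R ⧸ Subgroup.center R) := by
    rcases Nat.lt_or_ge n 2 with h2 | h2
    · rcases (by omega : n = 0 ∨ n = 1) with rfl | rfl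
      · haveI : Subsingleton (R ⧸ Subgroup.center R) :=
          (Nat.card_eq_one_iff_unique.mp (hn.trans (pow_zero 2))).1
        exact isCyclic_of_subsingleton
      · exact isCyclic_of_prime_card (p := 2) (hn.trans (pow_one 2))
    · exact absurd (Nat.pow_le_pow_right (n := 2) (by norm_num) h2) hlt
  obtain ⟨a, b, hab⟩ := h.is_comm
  refine h.ne (hab ▸ ?_)
  rw [(MonoidHom.isMulCommutative_of_isCyclic_of_ker_le_center
    (QuotientGroup.mk' (Subgroup.center R)) (by rw [QuotientGroup.ker_mk'])).is_comm.comm a b]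
  group

end DerTwo

variable {G : Type u} [Group G] [Finite G] {P : Sylow 2 G}

/-- The derived group of `P` has order at most two. -/
theorem commutative_or_derTwo (hk : 2 * k2 G = Nat.card ↥(P : Subgroup G)) :
    (∀ a b : ↥(P : Subgroup G), a * b = b * a) ∨ ∃ c, DerTwo ↥(P : Subgroup G) c := by
  haveI : Fact (Nat.Prime 2) := ⟨Nat.prime_two⟩
  set D := commutator ↥(P : Subgroup G) with hD
  have hkk := k2_le_kk (P := P)
  have h4 := S3895.four_mul_card_conjClasses_le ↥(P : Subgroup G)
  have hc := D.card_mul_index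
  have hmem : ∀ a b : ↥(P : Subgroup G), a * b * a⁻¹ * b⁻¹ ∈ D := fun a b => by
    rw [hD, commutator_def, ← commutatorElement_def]
    exact Subgroup.commutator_mem_commutator (Subgroup.mem_top a) (Subgroup.mem_top b)
  have hle : Nat.card D ≤ 3 := by
    by_contra hlt
    have h5 : 4 * D.index ≤ Nat.card ↥(P : Subgroup G) := by
      rw [← hc]; exact Nat.mul_le_mul_right _ (by omega)
    have h6 : 0 < D.index := Nat.pos_of_ne_zero Subgroup.index_ne_zero_of_finite
    rw [← hD] at h4
    omega
  obtain ⟨n, hn⟩ := IsPGroup.iff_card.mp (P.2.to_subgroup D)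
  rcases n with _ | _ | n
  · left
    intro a b
    have h1 : D = ⊥ := Subgroup.card_eq_one.mp (hn.trans (pow_zero 2))
    have h2 := hmem a b
    rw [h1, Subgroup.mem_bot, mul_inv_eq_one, mul_inv_eq_iff_eq_mul] at h2
    exact h2
  · by_cases hcm : ∀ a b : ↥(P : Subgroup G), a * b = b * a
    · exact Or.inl hcm
    push Not at hcm
    obtain ⟨a₀, b₀, hab⟩ := hcm
    set c := a₀ * b₀ * a₀⁻¹ * b₀⁻¹ with hcdef
    have hc1 : c ≠ 1 := fun e => hab (mul_inv_eq_iff_eq_mul.mp (mul_inv_eq_one.mp e))
    obtain ⟨s, t, hst, huniv⟩ := Nat.card_eq_two_iff.mp (hn.trans (by norm_num))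
    have hcl : ∀ d : D, (d : ↥(P : Subgroup G)) ≠ 1 → d = ⟨c, hmem a₀ b₀⟩ := by
      intro d hd
      have hall : ∀ e : D, e = s ∨ e = t := fun e => by
        have : e ∈ ({s, t} : Set D) := huniv ▸ Set.mem_univ e
        simpa using this
      have hd' : d ≠ 1 := fun e => hd (congrArg Subtype.val e)
      have hc' : (⟨c, hmem a₀ b₀⟩ : D) ≠ 1 := fun e => hc1 (congrArg Subtype.val e)
      rcases hall 1 with h | h <;> rcases hall d with h' | h' <;>
        rcases hall ⟨c, hmem a₀ b₀⟩ with h'' | h'' <;> simp_all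
    refine Or.inr ⟨c, hc1, ?_, fun a b => ?_, a₀, b₀, rfl⟩
    · by_contra h2
      have h3 : c * c = c :=
        congrArg Subtype.val (hcl ⟨c * c, D.mul_mem (hmem a₀ b₀) (hmem a₀ b₀)⟩ h2)
      exact hc1 (mul_eq_left.mp h3)
    · by_cases h1 : a * b * a⁻¹ * b⁻¹ = 1
      · exact Or.inl h1
      · exact Or.inr (congrArg Subtype.val (hcl ⟨_, hmem a b⟩ h1))
  · exfalso
    have : 2 ^ 2 ≤ Nat.card D := hn ▸ Nat.pow_le_pow_right (by norm_num) (by omega)
    omega

theorem card_classes_of_commutative (hcm : ∀ a b : ↥(P : Subgroup G), a * b = b * a) :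
    Nat.card (ConjClasses ↥(P : Subgroup G)) = Nat.card ↥(P : Subgroup G) :=
  (Nat.card_congr (Equiv.ofBijective ConjClasses.mk ⟨fun a b h => by
    obtain ⟨g, rfl⟩ := isConj_iff.mp (ConjClasses.mk_eq_mk_iff_isConj.mp h)
    rw [hcm g a, mul_inv_cancel_right], ConjClasses.mk_surjective⟩)).symm

theorem not_isPGroup (hk : 2 * k2 G = Nat.card ↥(P : Subgroup G)) : ¬ IsPGroup 2 G := by
  intro hG
  haveI : Fact (Nat.Prime 2) := ⟨Nat.prime_two⟩
  have h1 := Transfer.card_conjClasses_le_pClasses
    (Transfer.hasNormalPComplement_of_isPGroup hG) P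
  have hpos : 0 < Nat.card ↥(P : Subgroup G) := Nat.card_pos
  unfold k2 at hk
  rcases commutative_or_derTwo hk with hcm | ⟨c, hc⟩
  · rw [card_classes_of_commutative hcm] at h1
    omega
  · have h2 := hc.two_mul_card_classes
    have h3 : 0 < Nat.card (Subgroup.center ↥(P : Subgroup G)) := Nat.card_pos
    omega

theorem center_le (hO : Cfsg.pPrimeCore 2 G = ⊥) (P : Sylow 2 G) :
    Subgroup.center G ≤ (P : Subgroup G) := by
  haveI : Fact (Nat.Prime 2) := ⟨Nat.prime_two⟩
  have hp : IsPGroup 2 ↥(Subgroup.center G) := by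
    rw [IsPGroup.iff_card]
    refine ⟨_, Nat.eq_prime_pow_of_unique_prime_dvd Nat.card_pos.ne' fun {q} hq hqd => ?_⟩
    haveI := Fact.mk hq
    by_contra hne
    obtain ⟨z, hz⟩ := exists_prime_orderOf_dvd_card' (G := ↥(Subgroup.center G)) q hqd
    have hzn : (Subgroup.zpowers (z : G)).Normal := ⟨fun n hn g => by
      have hc : n ∈ Subgroup.center G := Subgroup.zpowers_le.2 z.2 hn
      rwa [Subgroup.mem_center_iff.1 hc g, mul_inv_cancel_right]⟩
    have hle := Thompson.le_pPrimeCore (p := 2) hzn (by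
      rw [Nat.card_zpowers, Subgroup.orderOf_coe, hz]
      exact (Nat.coprime_primes hq Nat.prime_two).mpr hne)
    rw [hO, le_bot_iff, Subgroup.zpowers_eq_bot] at hle
    rw [← Subgroup.orderOf_coe, hle, orderOf_one] at hz
    exact hq.one_lt.ne hz
  exact hp.le_sylow_of_normal P

/-- A central element of `P` outside the centre of `G` is fused inside `P`. -/
theorem exists_partner (hO : Cfsg.pPrimeCore 2 G = ⊥) (P : Sylow 2 G) {x : ↥(P : Subgroup G)}
    (hxc : x ∈ Subgroup.center ↥(P : Subgroup G)) (hxZ : (x : G) ∉ Subgroup.center G) :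
    ∃ (g : G) (y : ↥(P : Subgroup G)), g * (x : G) * g⁻¹ = y ∧ y ≠ x := by
  by_contra h
  push Not at h
  refine hxZ (mem_center_of_isolated hO P x.2
    (fun a ha => congrArg Subtype.val (Subgroup.mem_center_iff.mp hxc ⟨a, ha⟩)) fun g hg => ?_)
  exact congrArg Subtype.val (h g ⟨_, hg⟩ rfl)

/-- An element of odd order of the normaliser of `P` centralises `P` when `|P'| = 2`. -/
theorem odd_centralizes (hk : 2 * k2 G = Nat.card ↥(P : Subgroup G)) {c : ↥(P : Subgroup G)}
    (hc : DerTwo ↥(P : Subgroup G) c) {v : G}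
    (hv : v ∈ Subgroup.normalizer ((P : Subgroup G) : Set G)) (hodd : Odd (orderOf v))
    (x : ↥(P : Subgroup G)) : v * (x : G) * v⁻¹ = x := by
  classical
  by_contra hx
  haveI : Fintype ↥(P : Subgroup G) := Fintype.ofFinite _
  haveI : Fintype (ConjClasses ↥(P : Subgroup G)) := Fintype.ofFinite _
  set τ := tau P v hv with hτ
  have hτinj : Function.Injective τ := fun a b h => by
    have h1 := congrArg Subtype.val h
    rw [tau_coe, tau_coe] at h1
    exact Subtype.ext (mul_left_cancel (mul_right_cancel h1))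
  have hτc : τ c = c := by
    obtain ⟨a, b, hab⟩ := hc.is_comm
    rcases hc.mem (τ a) (τ b) with h | h <;>
      rw [← map_inv, ← map_inv, ← map_mul, ← map_mul, ← map_mul, hab] at h
    · exact absurd (hτinj (h.trans (map_one τ).symm)) hc.ne
    · exact h
  -- a class is fixed only if its elements are
  have hfix : ∀ z, ConjClasses.map τ (ConjClasses.mk z) = ConjClasses.mk z → τ z = z := by
    intro z hz
    rcases hc.eq_or_of_mk_eq (hz.symm : ConjClasses.mk z = ConjClasses.mk (τ z)) with h | h
    · exact h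
    have h2 : ∀ i, τ^[2 * i] z = z := fun i => by
      induction i with
      | zero => rfl
      | succ i ih =>
        rw [Nat.mul_succ, Function.iterate_add_apply]
        simp only [Function.iterate_succ_apply', Function.iterate_zero_apply]
        rw [h, map_mul, hτc, h, ← mul_assoc, hc.sq, one_mul]
        exact ih
    obtain ⟨j, hj⟩ := hodd
    have h3 : τ^[2 * j + 1] z = z := by
      apply Subtype.ext
      rw [hτ, map_tau_iterate, ← hj, pow_orderOf_eq_one, inv_one, one_mul, mul_one]
    rw [Function.iterate_succ_apply', h2] at h3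
    exact h3
  set F := MonoidHom.eqLocus τ (MonoidHom.id ↥(P : Subgroup G))
  have hF : 2 * Nat.card F ≤ Nat.card ↥(P : Subgroup G) := by
    rw [← F.card_mul_index, mul_comm 2]
    refine Nat.mul_le_mul_left _ (Subgroup.one_lt_index_of_ne_top fun htop => hx ?_)
    have h1 : τ x = x := (htop ▸ Subgroup.mem_top x : x ∈ F)
    exact congrArg Subtype.val h1
  set D := Finset.univ.filter fun z : ↥(P : Subgroup G) => τ z ≠ z with hD
  have hDc : Nat.card F + D.card = Nat.card ↥(P : Subgroup G) := by
    rw [Nat.card_eq_fintype_card (α := ↥(P : Subgroup G)), ← Finset.card_univ,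
      ← Finset.card_filter_add_card_filter_not (s := Finset.univ)
        (fun z : ↥(P : Subgroup G) => τ z = z)]
    congr 1
    rw [Nat.card_eq_fintype_card, Fintype.card_subtype]
    congr 1
    ext z
    exact ⟨fun h => Finset.mem_filter.mpr ⟨Finset.mem_univ _, (Finset.mem_filter.mp h).2⟩,
      fun h => Finset.mem_filter.mpr ⟨Finset.mem_univ _, (Finset.mem_filter.mp h).2⟩⟩
  set Mc := Finset.univ.filter fun C : ConjClasses ↥(P : Subgroup G) => ConjClasses.map τ C ≠ C
  have hDM : D.card ≤ 2 * Mc.card := by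
    refine (Finset.card_le_mul_card_image (f := ConjClasses.mk) D 2 fun C _ => ?_).trans
      (Nat.mul_le_mul_left 2 (Finset.card_le_card ?_))
    · induction C using Quotient.inductionOn with
      | _ z =>
      refine le_trans (Finset.card_le_card (t := {z, c * z}) ?_) Finset.card_le_two
      intro w hw
      simp only [Finset.mem_filter] at hw
      have := hc.eq_or_of_mk_eq hw.2.symm
      simpa using this
    · intro C hC
      obtain ⟨z, hz, rfl⟩ := Finset.mem_image.mp hC
      exact Finset.mem_filter.mpr ⟨Finset.mem_univ _, fun h => (Finset.mem_filter.mp hz).2 (hfix z h)⟩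
  have h1 : 3 * k2 G + 2 * Mc.card ≤ 3 * Nat.card (ConjClasses ↥(P : Subgroup G)) :=
    three_mul_moved v hv hodd
  have h2 := hc.two_mul_card_classes
  have h3 := hc.four_mul_center_le P.2
  have h4 : 0 < Nat.card (Subgroup.center ↥(P : Subgroup G)) := Nat.card_pos
  omega

end Cfsg.Agent.CG26.HalfK2
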