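import Cfsg.Agent.S3895
import Mathlib.GroupTheory.GroupAction.Quotient

/-!
# Fusion and the number of classes of `2`-elements: counting
-/

set_option autoImplicit false
set_option linter.unusedSectionVars false
set_option linter.style.haveILetI false

namespace Cfsg.Agent.CG26.HalfK2

open scoped commutatorElement Pointwise

/-- The number of classes of `2`-elements. -/
noncomputable abbrev k2 (G : Type*) [Group G] : ℕ :=
  Nat.card {c : ConjClasses G // ∀ x ∈ c.carrier, ∃ k : ℕ, orderOf x = 2 ^ k}

variable {G : Type*} [Group G] [Finite G] {P : Sylow 2 G}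

/-- The class in `G` of a class in `P`. -/
noncomputable def up (P : Sylow 2 G) : ConjClasses ↥(P : Subgroup G) → ConjClasses G :=
  ConjClasses.map (P : Subgroup G).subtype

theorem up_mk (x : (P : Subgroup G)) : up P (ConjClasses.mk x) = ConjClasses.mk (x : G) := rfl

theorem k2_add_le [Fintype (ConjClasses ↥(P : Subgroup G))] [DecidableEq (ConjClasses G)]
    (S : Finset (ConjClasses ↥(P : Subgroup G))) :
    k2 G + S.card ≤ Nat.card (ConjClasses ↥(P : Subgroup G)) + (S.image (up P)).card := by
  classical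
  haveI : Fintype (ConjClasses G) := Fintype.ofFinite _
  have hA : k2 G ≤ ((Finset.univ : Finset (ConjClasses ↥(P : Subgroup G))).image (up P)).card := by
    rw [← Fintype.card_coe, ← Nat.card_eq_fintype_card]
    refine Transfer.card_pClasses_le_of_fibres P
      (fun a => (⟨up P (ConjClasses.mk a), Finset.mem_image_of_mem _ (Finset.mem_univ _)⟩ :
        ↥((Finset.univ : Finset (ConjClasses ↥(P : Subgroup G))).image (up P)))) fun a b h => ?_
    exact congrArg Subtype.val h
  have hsub : (Finset.univ : Finset (ConjClasses ↥(P : Subgroup G))).image (up P) ⊆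
      S.image (up P) ∪ (Finset.univ \ S).image (up P) := by
    rw [← Finset.image_union, Finset.union_sdiff_of_subset (Finset.subset_univ S)]
  have h1 := (Finset.card_le_card hsub).trans (Finset.card_union_le _ _)
  have h2 : ((Finset.univ \ S).image (up P)).card ≤ (Finset.univ \ S).card := Finset.card_image_le
  have h3 : (Finset.univ \ S).card + S.card = Nat.card (ConjClasses ↥(P : Subgroup G)) := by
    rw [Finset.card_sdiff_add_card_eq_card (Finset.subset_univ S), Finset.card_univ,
      Nat.card_eq_fintype_card]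
  omega

theorem k2_le_kk : k2 G ≤ Nat.card (ConjClasses ↥(P : Subgroup G)) :=
  Transfer.card_pClasses_le_card_conjClasses P

/-- Conjugation by an element of the normaliser, on `P`. -/
noncomputable def tau (P : Sylow 2 G) (n : G) (hn : n ∈ Subgroup.normalizer ((P : Subgroup G) : Set G)) :
    ↥(P : Subgroup G) →* ↥(P : Subgroup G) :=
  ((MulAut.conj n).toMonoidHom.comp (P : Subgroup G).subtype).codRestrict _ fun x =>
    (Subgroup.mem_normalizer_iff.mp hn _).mp x.2

theorem tau_coe (n : G) (hn : n ∈ Subgroup.normalizer ((P : Subgroup G) : Set G))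
    (x : (P : Subgroup G)) : ((tau P n hn x : (P : Subgroup G)) : G) = n * x * n⁻¹ := rfl

theorem up_map_tau (n : G) (hn : n ∈ Subgroup.normalizer ((P : Subgroup G) : Set G))
    (c : ConjClasses ↥(P : Subgroup G)) : up P (ConjClasses.map (tau P n hn) c) = up P c := by
  induction c using Quotient.inductionOn with
  | _ x =>
    show ConjClasses.mk ((tau P n hn x : (P : Subgroup G)) : G) = ConjClasses.mk (x : G)
    rw [ConjClasses.mk_eq_mk_iff_isConj, tau_coe]
    exact (isConj_iff.mpr ⟨n, rfl⟩).symm

theorem map_tau_iterate (n : G) (hn : n ∈ Subgroup.normalizer ((P : Subgroup G) : Set G)) (i : ℕ)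
    (x : (P : Subgroup G)) :
    ((((tau P n hn)^[i]) x : (P : Subgroup G)) : G) = n ^ i * x * (n ^ i)⁻¹ := by
  induction i with
  | zero => simp
  | succ i ih => rw [Function.iterate_succ_apply', tau_coe, ih, pow_succ']; group

theorem classes_iterate (n : G) (hn : n ∈ Subgroup.normalizer ((P : Subgroup G) : Set G)) (i : ℕ)
    (x : (P : Subgroup G)) :
    (ConjClasses.map (tau P n hn))^[i] (ConjClasses.mk x) = ConjClasses.mk ((tau P n hn)^[i] x) := by
  induction i with
  | zero => rfl
  | succ i ih => rw [Function.iterate_succ_apply', Function.iterate_succ_apply', ih]; rfl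

/-- Classes moved by an element of odd order of the normaliser. -/
theorem three_mul_moved [Fintype (ConjClasses ↥(P : Subgroup G))]
    [DecidableEq (ConjClasses ↥(P : Subgroup G))] [DecidableEq (ConjClasses G)]
    (n : G) (hn : n ∈ Subgroup.normalizer ((P : Subgroup G) : Set G)) (hodd : Odd (orderOf n)) :
    3 * k2 G + 2 * (Finset.univ.filter fun c => ConjClasses.map (tau P n hn) c ≠ c).card ≤
      3 * Nat.card (ConjClasses ↥(P : Subgroup G)) := by
  classical
  set t := ConjClasses.map (tau P n hn) with ht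
  set S := Finset.univ.filter fun c => t c ≠ c with hS
  obtain ⟨j, hj⟩ := hodd
  have hper : ∀ c, t^[orderOf n] c = c := fun c => by
    induction c using Quotient.inductionOn with
    | _ x =>
      show t^[orderOf n] (ConjClasses.mk x) = ConjClasses.mk x
      rw [ht, classes_iterate]
      congr 1
      apply Subtype.ext
      rw [map_tau_iterate, pow_orderOf_eq_one, inv_one, one_mul, mul_one]
  have htwo : ∀ c, t (t c) = c → t c = c := fun c h => by
    have h2 : ∀ i, t^[2 * i] c = c := fun i => by
      induction i with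
      | zero => rfl
      | succ i ih => rw [Nat.mul_succ, Function.iterate_add_apply]; simpa [h] using ih
    have h3 := hper c
    rw [hj, show 2 * j + 1 = (2 * j).succ from rfl, Function.iterate_succ_apply', h2] at h3
    exact h3
  have hinj : Function.Injective t := fun a b h => by
    have h1 := congrArg (t^[2 * j]) h
    rw [← Function.iterate_succ_apply, ← Function.iterate_succ_apply] at h1
    rwa [show (2 * j).succ = orderOf n by omega, hper, hper] at h1
  have hfib : ∀ y ∈ S.image (up P), 3 ≤ (S.filter fun c => up P c = y).card := by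
    intro y hy
    obtain ⟨c, hc, rfl⟩ := Finset.mem_image.mp hy
    have hc' : t c ≠ c := (Finset.mem_filter.mp hc).2
    have h1 : t c ∈ S := Finset.mem_filter.mpr ⟨Finset.mem_univ _, fun h => hc' (hinj h)⟩
    have h2 : t (t c) ∈ S := Finset.mem_filter.mpr ⟨Finset.mem_univ _, fun h => hc' (hinj (hinj h))⟩
    have hsub : ({c, t c, t (t c)} : Finset _) ⊆ S.filter fun d => up P d = up P c := by
      intro d hd
      simp only [Finset.mem_insert, Finset.mem_singleton] at hd
      rcases hd with rfl | rfl | rfl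
      · exact Finset.mem_filter.mpr ⟨hc, rfl⟩
      · exact Finset.mem_filter.mpr ⟨h1, up_map_tau n hn c⟩
      · exact Finset.mem_filter.mpr ⟨h2, (up_map_tau n hn _).trans (up_map_tau n hn c)⟩
    refine le_trans (le_of_eq ?_) (Finset.card_le_card hsub)
    rw [Finset.card_insert_of_notMem, Finset.card_pair]
    · exact fun h => hc' (hinj h).symm
    · simp only [Finset.mem_insert, Finset.mem_singleton, not_or]
      exact ⟨Ne.symm hc', fun h => hc' (htwo c h.symm)⟩
  have himg : 3 * (S.image (up P)).card ≤ S.card := by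
    rw [Finset.card_eq_sum_card_image (up P) S, mul_comm]
    simpa using Finset.card_nsmul_le_sum _ _ 3 hfib
  have := k2_add_le (P := P) S
  omega

/-- An element of the normaliser is a product of an element of `P` and one of odd order. -/
theorem exists_odd_part {n : G} (hn : n ∈ Subgroup.normalizer ((P : Subgroup G) : Set G)) :
    ∃ v ∈ Subgroup.normalizer ((P : Subgroup G) : Set G), Odd (orderOf v) ∧
      ∃ u ∈ (P : Subgroup G), n = u * v := by
  haveI : Fact (Nat.Prime 2) := ⟨Nat.prime_two⟩
  obtain ⟨a, m, hm, ham⟩ := Nat.exists_eq_pow_mul_and_not_dvd (orderOf_pos n).ne' 2 (by norm_num)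
  have hcop : Nat.Coprime (2 ^ a) m := ((Nat.prime_two.coprime_iff_not_dvd).mpr hm).pow_left a
  obtain ⟨j, hj1, hj2⟩ := Nat.chineseRemainder hcop 0 1
  set v := n ^ j
  have hv : v ^ m = 1 := by
    obtain ⟨i, hi⟩ := Nat.modEq_zero_iff_dvd.mp hj1
    rw [← pow_mul, hi, mul_right_comm, ← ham, pow_mul, pow_orderOf_eq_one, one_pow]
  have hodd : Odd (orderOf v) :=
    Odd.of_dvd_nat (Nat.odd_iff.mpr (by omega)) (orderOf_dvd_of_pow_eq_one hv)
  refine ⟨v, pow_mem hn j, hodd, n * v⁻¹, ?_, by group⟩
  have hu : (n * v⁻¹) ^ 2 ^ a = 1 := by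
    rw [((Commute.refl n).pow_right j).inv_right.mul_pow, inv_pow, ← pow_mul, mul_inv_eq_one,
      pow_eq_pow_iff_modEq, ham]
    calc 2 ^ a = 2 ^ a * 1 := (mul_one _).symm
      _ ≡ 2 ^ a * j [MOD 2 ^ a * m] := Nat.ModEq.mul_left' _ hj2.symm
      _ = j * 2 ^ a := mul_comm _ _
  have huN : n * v⁻¹ ∈ Subgroup.normalizer ((P : Subgroup G) : Set G) :=
    mul_mem hn (inv_mem (pow_mem hn j))
  have hz : IsPGroup 2 (Subgroup.zpowers (n * v⁻¹)) := fun x => by
    refine ⟨a, ?_⟩
    obtain ⟨x, hx⟩ := x
    obtain ⟨i, rfl⟩ := Subgroup.mem_zpowers_iff.mp hx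
    apply Subtype.ext
    rw [SubgroupClass.coe_pow, OneMemClass.coe_one, ← zpow_natCast, ← zpow_mul, mul_comm, zpow_mul,
      zpow_natCast, hu, one_zpow]
  have hsup := P.2.to_sup_of_normal_left' hz ((Subgroup.zpowers_le).mpr huN)
  have heq := P.3 hsup le_sup_left
  exact heq.le ((le_sup_right : Subgroup.zpowers (n * v⁻¹) ≤ _) (Subgroup.mem_zpowers _))

/-- Burnside: central elements of `P` conjugate in `G` are conjugate in the normaliser of `P`. -/
theorem exists_normalizer_conj {x y g : G} (hx : x ∈ (P : Subgroup G)) (hy : y ∈ (P : Subgroup G))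
    (hxc : ∀ u ∈ (P : Subgroup G), u * x = x * u) (hyc : ∀ u ∈ (P : Subgroup G), u * y = y * u)
    (hg : g * x * g⁻¹ = y) :
    ∃ n ∈ Subgroup.normalizer ((P : Subgroup G) : Set G), n * x * n⁻¹ = y := by
  classical
  haveI : Fact (Nat.Prime 2) := ⟨Nat.prime_two⟩
  set C := Subgroup.centralizer ({y} : Set G)
  have h1 : (P : Subgroup G) ≤ C := fun u hu => Subgroup.mem_centralizer_singleton_iff.mpr (hyc u hu)
  have h2 : ((g • P : Sylow 2 G) : Subgroup G) ≤ C := by
    intro w hw
    obtain ⟨u, hu, rfl⟩ : ∃ u ∈ (P : Subgroup G), g * u * g⁻¹ = w := hw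
    rw [Subgroup.mem_centralizer_singleton_iff, ← hg]
    calc g * u * g⁻¹ * (g * x * g⁻¹) = g * (u * x) * g⁻¹ := by group
      _ = g * (x * u) * g⁻¹ := by rw [hxc u hu]
      _ = g * x * g⁻¹ * (g * u * g⁻¹) := by group
  obtain ⟨c, hc⟩ := MulAction.exists_smul_eq C ((g • P).subtype h2) (P.subtype h1)
  have hc' : (c : G) • (g • P) = P := by
    have h3 : ((g • P).subtype h2 : Sylow 2 C) = (g • P).subtype h2 := rfl
    rw [Sylow.smul_subtype] at hc
    exact Sylow.subtype_injective hc
  refine ⟨(c : G) * g, ?_, ?_⟩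
  · exact Sylow.smul_eq_iff_mem_normalizer.mp (by rw [mul_smul, hc'])
  · calc (c : G) * g * x * ((c : G) * g)⁻¹ = (c : G) * (g * x * g⁻¹) * (c : G)⁻¹ := by group
      _ = (c : G) * y * (c : G)⁻¹ := by rw [hg]
      _ = y := by rw [Subgroup.mem_centralizer_singleton_iff.mp c.2, mul_inv_cancel_right]

end Cfsg.Agent.CG26.HalfK2
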