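import Cfsg.Agent.CG26.HalfK2.Count
import Cfsg.Agent.GW66.Defs
import Cfsg.Agent.S2119
import Cfsg.Agent.Lib.LinearGroup.SmallPSL
import Cfsg.Agent.Lib.LinearGroup.PermTools
import Cfsg.Agent.Lib.Thompson.Cores
import Mathlib.GroupTheory.Transfer
import Mathlib.LinearAlgebra.Projectivization.PSL.PSL2

/-!
# Groups with trivial odd core over a group with Sylow `2`-subgroup of order at most four
-/

set_option autoImplicit false
set_option linter.style.haveILetI false
set_option linter.unusedSectionVars false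

namespace Cfsg.Agent.CG26.HalfK2

open scoped Pointwise

universe u

/-- The conclusion about `G / Z(G)`. -/
def Concl (H : Type u) [Group H] : Prop :=
  Nonempty (H ≃* ↥(alternatingGroup (Fin 4))) ∨ Nonempty (H ≃* Equiv.Perm (Fin 4)) ∨
    ∃ S : Subgroup H, S.Normal ∧ IsSimpleGroup ↥S ∧ ¬ IsMulCommutative ↥S ∧
      Subgroup.centralizer (S : Set H) = ⊥ ∧
      ∃ (F : Type) (_ : Field F) (_ : Fintype F), 3 < Fintype.card F ∧
        (Fintype.card F % 8 = 3 ∨ Fintype.card F % 8 = 5) ∧
          Nonempty (↥S ≃* Matrix.ProjectiveSpecialLinearGroup (Fin 2) F)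

variable {L : Type u} [Group L] [Finite L]

theorem isPGroup_of_complement (hO : Cfsg.pPrimeCore 2 L = ⊥) (S : Sylow 2 L) {K : Subgroup L}
    (hK : K.Normal) (h : K.IsComplement' (S : Subgroup L)) : IsPGroup 2 L := by
  haveI : Fact (Nat.Prime 2) := ⟨Nat.prime_two⟩
  have hcop : (Nat.card K).Coprime 2 := by
    have h1 := S.not_dvd_index
    rw [h.index_eq_card] at h1
    exact ((Nat.Prime.coprime_iff_not_dvd Nat.prime_two).mpr h1).symm
  have hb : K = ⊥ := le_bot_iff.mp (hO ▸ Thompson.le_pPrimeCore hK hcop)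
  obtain ⟨n, hn⟩ := IsPGroup.iff_card.mp S.2
  refine IsPGroup.of_card (n := n) ?_
  rw [← h.card_mul_card, hb, Subgroup.card_bot, one_mul, hn]

theorem klein_fused_of_small (hO : Cfsg.pPrimeCore 2 L = ⊥) (S : Sylow 2 L)
    (h4 : Nat.card ↥(S : Subgroup L) ≤ 4) (hnp : ¬ IsPGroup 2 L) :
    IsKleinFour ↥(S : Subgroup L) ∧ GW66.Fused (⊤ : Subgroup L) (S : Subgroup L) := by
  classical
  haveI : Fact (Nat.Prime 2) := ⟨Nat.prime_two⟩
  have hcomm : ∀ a ∈ (S : Subgroup L), ∀ b ∈ (S : Subgroup L), a * b = b * a := by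
    intro a ha b hb
    obtain ⟨n, hn⟩ := IsPGroup.iff_card.mp S.2
    have hn2 : n ≤ 2 := by
      by_contra hlt
      have := Nat.pow_le_pow_right (n := 2) (by norm_num) (by omega : 3 ≤ n)
      omega
    rcases Nat.lt_or_ge n 2 with hn1 | hn1
    · haveI : IsCyclic ↥(S : Subgroup L) := by
        rcases (by omega : n = 0 ∨ n = 1) with rfl | rfl
        · haveI : Subsingleton ↥(S : Subgroup L) :=
            (Nat.card_eq_one_iff_unique.mp (hn.trans (pow_zero 2))).1
          exact isCyclic_of_subsingleton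
        · exact isCyclic_of_prime_card (by simpa using hn)
      letI := IsCyclic.commGroup (α := ↥(S : Subgroup L))
      exact congrArg Subtype.val (mul_comm (⟨a, ha⟩ : ↥(S : Subgroup L)) ⟨b, hb⟩)
    · obtain rfl : n = 2 := by omega
      exact congrArg Subtype.val
        ((IsPGroup.isMulCommutative_of_card_eq_prime_sq hn).is_comm.comm ⟨a, ha⟩ ⟨b, hb⟩)
  obtain ⟨g, hgN, hgC⟩ : ∃ g ∈ Subgroup.normalizer ((S : Subgroup L) : Set L),
      g ∉ Subgroup.centralizer ((S : Subgroup L) : Set L) := by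
    by_contra h
    push Not at h
    exact hnp (isPGroup_of_complement hO S inferInstance
      (MonoidHom.ker_transferSylow_isComplement' S h))
  obtain ⟨v, hvN, hvodd, w, hw, hgv⟩ := exists_odd_part hgN
  have hvC : v ∉ Subgroup.centralizer ((S : Subgroup L) : Set L) := fun h => hgC (hgv ▸
    Subgroup.mul_mem _ (Subgroup.mem_centralizer_iff.mpr fun b hb => hcomm b hb w hw) h)
  obtain ⟨x, hx, hxv⟩ : ∃ x ∈ (S : Subgroup L), v * x * v⁻¹ ≠ x := by
    by_contra h
    push Not at h
    exact hvC (Subgroup.mem_centralizer_iff.mpr fun b hb =>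
      (mul_inv_eq_iff_eq_mul.mp (h b hb)).symm)
  set y := v * x * v⁻¹ with hy
  set z := v * y * v⁻¹ with hz
  have hyS : y ∈ (S : Subgroup L) := (Subgroup.mem_normalizer_iff.mp hvN x).mp hx
  have hzS : z ∈ (S : Subgroup L) := (Subgroup.mem_normalizer_iff.mp hvN y).mp hyS
  have hzy : z ≠ y := fun h => hxv (mul_left_cancel (mul_right_cancel (h : v * y * v⁻¹ = v * x * v⁻¹)))
  have hzx : z ≠ x := by
    intro h
    obtain ⟨j, hj⟩ := hvodd
    have h2 : Commute (v ^ 2) x := by
      show v ^ 2 * x = x * v ^ 2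
      calc v ^ 2 * x = z * v ^ 2 := by rw [hz, hy, pow_two]; group
        _ = x * v ^ 2 := by rw [h]
    have h3 : Commute v x := by
      have h4 := h2.pow_left (j + 1)
      rwa [← pow_mul, show 2 * (j + 1) = orderOf v + 1 by omega, pow_succ, pow_orderOf_eq_one,
        one_mul] at h4
    exact hxv (mul_inv_eq_iff_eq_mul.mpr h3)
  have hx1 : x ≠ 1 := fun h => hxv (by rw [hy, h]; group)
  have hy1 : y ≠ 1 := fun h => hx1 (conj_eq_one_iff.mp h)
  have hz1 : z ≠ 1 := fun h => hy1 (conj_eq_one_iff.mp h)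
  haveI : Fintype ↥(S : Subgroup L) := Fintype.ofFinite _
  let T : Finset ↥(S : Subgroup L) := {1, ⟨x, hx⟩, ⟨y, hyS⟩, ⟨z, hzS⟩}
  have hT : T.card = 4 := by
    simp only [T]
    rw [Finset.card_insert_of_notMem, Finset.card_insert_of_notMem, Finset.card_pair]
    · intro h; exact hzy.symm (congrArg Subtype.val h)
    · simp only [Finset.mem_insert, Finset.mem_singleton, not_or, Subtype.ext_iff]
      exact ⟨fun h => hxv h.symm, fun h => hzx h.symm⟩
    · simp only [Finset.mem_insert, Finset.mem_singleton, not_or, Subtype.ext_iff,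
        OneMemClass.coe_one]
      exact ⟨hx1.symm, hy1.symm, hz1.symm⟩
  have hcard : Nat.card ↥(S : Subgroup L) = 4 := by
    refine le_antisymm h4 ?_
    rw [Nat.card_eq_fintype_card, ← hT]
    exact Finset.card_le_univ T
  have huniv : T = Finset.univ :=
    Finset.eq_univ_of_card T (by rw [hT, ← Nat.card_eq_fintype_card, hcard])
  have ho : ∀ c : ↥(S : Subgroup L), c ≠ 1 → orderOf (c : L) = orderOf x := by
    intro c hc
    have h1 : c ∈ T := huniv ▸ Finset.mem_univ c
    simp only [T, Finset.mem_insert, Finset.mem_singleton] at h1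
    rcases h1 with h1 | h1 | h1 | h1
    · exact absurd h1 hc
    · rw [h1]
    · rw [h1]; exact MulEquiv.orderOf_eq (MulAut.conj v) x
    · rw [h1]
      exact (MulEquiv.orderOf_eq (MulAut.conj v) y).trans (MulEquiv.orderOf_eq (MulAut.conj v) x)
  have hsq : x ^ 2 = 1 := by
    by_contra h
    have h1 := ho ⟨x ^ 2, pow_mem hx 2⟩ (fun e => h (congrArg Subtype.val e))
    obtain ⟨k, hk⟩ := IsPGroup.iff_orderOf.mp S.2 ⟨x, hx⟩
    rw [Subgroup.orderOf_mk] at hk
    change orderOf (x ^ 2) = orderOf x at h1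
    rw [orderOf_pow, hk] at h1
    rcases k with _ | k
    · exact hx1 (orderOf_eq_one_iff.mp hk)
    · rw [Nat.gcd_eq_right (dvd_pow_self 2 (by omega))] at h1
      have : 0 < 2 ^ (k + 1) := by positivity
      omega
  refine ⟨⟨hcard, ?_⟩, v, Subgroup.mem_top v, hvN, hvC⟩
  haveI : Nontrivial ↥(S : Subgroup L) := ⟨⟨x, hx⟩, 1, fun e => hx1 (congrArg Subtype.val e)⟩
  rw [Monoid.exponent_eq_prime_iff Nat.prime_two]
  intro c hc
  rw [← Subgroup.orderOf_coe, ho c hc]
  exact orderOf_eq_prime hsq hx1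

theorem centralizer_eq_bot_of_odd (hO : Cfsg.pPrimeCore 2 L = ⊥) (N : Subgroup L) [N.Normal]
    (hodd : Odd N.index) (hZ : Subgroup.center ↥N = ⊥) :
    Subgroup.centralizer (N : Set L) = ⊥ := by
  set C := Subgroup.centralizer (N : Set L)
  have hinj : Function.Injective ((QuotientGroup.mk' N).comp C.subtype) := by
    rw [← MonoidHom.ker_eq_bot_iff, eq_bot_iff]
    intro c hc
    have hcN : (c : L) ∈ N := (QuotientGroup.eq_one_iff _).mp hc
    have h1 : (⟨c, hcN⟩ : N) ∈ Subgroup.center ↥N := Subgroup.mem_center_iff.mpr fun n =>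
      Subtype.ext (Subgroup.mem_centralizer_iff.mp c.2 n n.2)
    rw [hZ, Subgroup.mem_bot] at h1
    exact Subtype.ext (congrArg (fun t : N => (t : L)) h1)
  have hdvd : Nat.card C ∣ N.index := by
    rw [Subgroup.index_eq_card]
    exact Subgroup.card_dvd_of_injective _ hinj
  exact le_bot_iff.mp (hO ▸ Thompson.le_pPrimeCore (inferInstance : C.Normal)
    (Nat.coprime_two_right.mpr (hodd.of_dvd_nat hdvd)))

theorem card_eq_twelve {M : Type u} [Group M] (e : M ≃* ↥(alternatingGroup (Fin 4))) :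
    Nat.card M = 12 := by
  rw [Nat.card_congr e.toEquiv, nat_card_alternatingGroup, Nat.card_eq_fintype_card,
    Fintype.card_fin]
  rfl

theorem center_eq_bot_of_equiv {M : Type u} [Group M] (e : M ≃* ↥(alternatingGroup (Fin 4))) :
    Subgroup.center M = ⊥ := by
  rw [eq_bot_iff]
  intro z hz
  have h1 : e z ∈ Subgroup.center ↥(alternatingGroup (Fin 4)) :=
    Subgroup.mem_center_iff.mpr fun a => by
      obtain ⟨b, rfl⟩ := e.surjective a
      rw [← map_mul, ← map_mul, Subgroup.mem_center_iff.mp hz b]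
  rw [alternatingGroup.center_eq_bot (by simp), Subgroup.mem_bot] at h1
  exact e.injective (h1.trans (map_one e).symm)

theorem four_a4 {H : Type u} [Group H] [Finite H] (N : Subgroup H) [N.Normal]
    (e : ↥N ≃* ↥(alternatingGroup (Fin 4))) (hC : Subgroup.centralizer (N : Set H) = ⊥) :
    Nonempty (H ≃* ↥(alternatingGroup (Fin 4))) ∨ Nonempty (H ≃* Equiv.Perm (Fin 4)) := by
  let φ : Equiv.Perm (Fin 4) ≃* MulAut ↥(alternatingGroup (Fin 4)) :=
    MulEquiv.ofBijective (MulAut.conjNormal : Equiv.Perm (Fin 4) →* _)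
      (S2119.result 4 le_rfl (by norm_num))
  let Ψ : H →* Equiv.Perm (Fin 4) :=
    φ.symm.toMonoidHom.comp ((MulAut.congr e).toMonoidHom.comp MulAut.conjNormal)
  have hΨ : Function.Injective Ψ := by
    refine φ.symm.injective.comp ((MulAut.congr e).injective.comp ?_)
    rw [← MonoidHom.ker_eq_bot_iff, eq_bot_iff, ← hC]
    intro h hh
    rw [Subgroup.mem_centralizer_iff]
    intro n hn
    have h1 := congrArg Subtype.val (DFunLike.congr_fun (MonoidHom.mem_ker.mp hh) (⟨n, hn⟩ : N))
    rw [MulAut.conjNormal_apply, MulAut.one_apply] at h1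
    exact (mul_inv_eq_iff_eq_mul.mp h1).symm
  have h24 : Nat.card H ∣ 24 := by
    refine (Subgroup.card_dvd_of_injective Ψ hΨ).trans (dvd_of_eq ?_)
    rw [Nat.card_perm, Nat.card_eq_fintype_card, Fintype.card_fin]
    rfl
  obtain ⟨m, hm⟩ : (12 : ℕ) ∣ Nat.card H := card_eq_twelve e ▸ Subgroup.card_subgroup_dvd_card N
  have hm2 : m ∣ 2 := by
    rw [hm, show (24 : ℕ) = 12 * 2 from rfl] at h24
    exact Nat.dvd_of_mul_dvd_mul_left (by norm_num) h24
  rcases (Nat.dvd_prime Nat.prime_two).mp hm2 with rfl | rfl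
  · exact Or.inl (LinearGroup.nonempty_mulEquiv_alternating Ψ hΨ (Fintype.card_fin 4)
      (by rw [hm]; rfl))
  · exact Or.inr (LinearGroup.nonempty_mulEquiv_perm Ψ hΨ (Fintype.card_fin 4) (by rw [hm]; rfl))

theorem simple_normal_eq {N N' : Subgroup L} [N.Normal] [N'.Normal] [IsSimpleGroup ↥N]
    (hC : Subgroup.centralizer (N : Set L) = ⊥) (hcard : Nat.card N = Nat.card N') : N' = N := by
  rcases (inferInstance : ((N' : Subgroup L).subgroupOf N).Normal).eq_bot_or_eq_top with h | h
  · exfalso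
    have hd : Disjoint N N' := by
      rw [disjoint_comm]; exact Subgroup.subgroupOf_eq_bot.mp h
    have hle : N' ≤ Subgroup.centralizer (N : Set L) := fun x hx =>
      Subgroup.mem_centralizer_iff.mpr fun y hy =>
        (Subgroup.commute_of_normal_of_disjoint N N' inferInstance inferInstance hd y x hy hx)
    rw [hC, le_bot_iff] at hle
    rw [hle, Subgroup.card_bot, Subgroup.card_eq_one] at hcard
    exact not_subsingleton ↥N (Finite.card_le_one_iff_subsingleton.mp
      (by rw [hcard, Subgroup.card_bot]))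
  · exact (Subgroup.eq_of_le_of_card_ge (Subgroup.subgroupOf_eq_top.mp h) hcard.ge).symm

/-- The final step: `L` normal with small Sylow `2`-subgroup and index a power of two. -/
theorem concl_of_four (hKS : GW66.KleinStmt.{u}) {H : Type u} [Group H] [Finite H]
    (hO : Cfsg.pPrimeCore 2 H = ⊥) (L : Subgroup H) [L.Normal] (S : Sylow 2 ↥L)
    (h4 : Nat.card ↥(S : Subgroup ↥L) ≤ 4) (hnp : ¬ IsPGroup 2 ↥L)
    (hidx : IsPGroup 2 (H ⧸ L))
    (hC : ∀ C : Subgroup H, C.Normal → IsPGroup 2 C → C ⊓ L = ⊥ → C = ⊥) : Concl H := by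
  classical
  haveI : Fact (Nat.Prime 2) := ⟨Nat.prime_two⟩
  have hOL : Cfsg.pPrimeCore 2 ↥L = ⊥ := by
    have h1 := Thompson.map_pPrimeCore_normal_le (p := 2) L
    rw [hO, le_bot_iff, Subgroup.map_eq_bot_iff_of_injective _ L.subtype_injective] at h1
    exact h1
  obtain ⟨hkl, hfu⟩ := klein_fused_of_small hOL S h4 hnp
  have hodd : Odd (S : Subgroup ↥L).index :=
    Nat.odd_iff.mpr (Nat.two_dvd_ne_zero.mp S.not_dvd_index)
  obtain ⟨N₀, hN₀n, hN₀i, F, iF, iFF, hF, ⟨e₀⟩⟩ := hKS ↥L (S : Subgroup ↥L) hkl hodd hfu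
  let ε : ↥L ⧸ Cfsg.oddCore ↥L ≃* ↥L :=
    (QuotientGroup.quotientMulEquivOfEq hOL).trans QuotientGroup.quotientBot
  set N := N₀.map ε.toMonoidHom with hN
  haveI : N.Normal := hN₀n.map _ ε.surjective
  have hNi : Odd N.index := by
    rw [hN, Subgroup.index_map_of_bijective ε.bijective]; exact hN₀i
  let e : ↥N ≃* Matrix.ProjectiveSpecialLinearGroup (Fin 2) F :=
    (N₀.equivMapOfInjective ε.toMonoidHom ε.injective).symm.trans e₀
  -- the centraliser in `H` of a self-centralising normal subgroup of `L`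
  have hcent : ∀ (M : Subgroup H), M.Normal → M ≤ L →
      Subgroup.centralizer ((M.subgroupOf L : Subgroup L) : Set L) = ⊥ →
      Subgroup.centralizer (M : Set H) = ⊥ := by
    intro M hMn hML hMC
    haveI := hMn
    set C := Subgroup.centralizer (M : Set H)
    have hCL : C ⊓ L = ⊥ := by
      rw [eq_bot_iff]
      rintro c ⟨hc, hcL⟩
      have h1 : (⟨c, hcL⟩ : L) ∈ Subgroup.centralizer ((M.subgroupOf L : Subgroup L) : Set L) :=
        Subgroup.mem_centralizer_iff.mpr fun m hm =>
          Subtype.ext (Subgroup.mem_centralizer_iff.mp hc (m : H) hm)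
      rw [hMC, Subgroup.mem_bot] at h1
      exact Subgroup.mem_bot.mpr (congrArg Subtype.val h1)
    refine hC C inferInstance (IsPGroup.of_injective hidx ((QuotientGroup.mk' L).comp C.subtype) ?_) hCL
    rw [← MonoidHom.ker_eq_bot_iff, eq_bot_iff]
    intro c hc
    have hcl : (c : H) ∈ C ⊓ L := ⟨c.2, (QuotientGroup.eq_one_iff _).mp hc⟩
    rw [hCL, Subgroup.mem_bot] at hcl
    exact Subtype.ext hcl
  by_cases h3 : Fintype.card F = 3
  · -- `A₄`
    obtain ⟨a⟩ := LinearGroup.psl_two_small (F := F) (Or.inl (by rw [Nat.card_eq_fintype_card, h3]))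
    rw [show Nat.card F + 1 = 4 by rw [Nat.card_eq_fintype_card, h3]] at a
    let eA : ↥N ≃* ↥(alternatingGroup (Fin 4)) := e.trans a
    have hCN := centralizer_eq_bot_of_odd hOL N hNi (center_eq_bot_of_equiv eA)
    have hNtop : N = ⊤ := by
      rw [← Subgroup.index_eq_one]
      have h12 := card_eq_twelve eA
      have h24 : N.index ∣ 2 := by
        rcases four_a4 N eA hCN with ⟨⟨f⟩⟩ | ⟨⟨f⟩⟩
        · have := N.card_mul_index
          rw [h12, card_eq_twelve f] at this
          exact dvd_trans (dvd_of_eq (by omega : N.index = 1)) (one_dvd 2)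
        · have := N.card_mul_index
          rw [h12, Nat.card_congr f.toEquiv, Nat.card_perm, Nat.card_eq_fintype_card (α := Fin 4),
            Fintype.card_fin, show Nat.factorial 4 = 24 from rfl] at this
          exact dvd_of_eq (by omega)
      rcases (Nat.dvd_prime Nat.prime_two).mp h24 with h | h
      · exact h
      · rw [h] at hNi; exact absurd hNi (by decide)
    let eL : ↥L ≃* ↥(alternatingGroup (Fin 4)) :=
      ((MulEquiv.subgroupCongr hNtop).trans Subgroup.topEquiv).symm.trans eA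
    have hL : Subgroup.centralizer (L : Set H) = ⊥ := hcent L inferInstance le_rfl (by
      rw [Subgroup.subgroupOf_self, ← hNtop]; exact hCN)
    rcases four_a4 L eL hL with h | h
    · exact Or.inl h
    · exact Or.inr (Or.inl h)
  · -- simple
    have hq : 4 ≤ Nat.card F := by
      rw [Nat.card_eq_fintype_card]
      omega
    haveI : IsSimpleGroup (Matrix.ProjectiveSpecialLinearGroup (Fin 2) F) :=
      Matrix.ProjectiveSpecialLinearGroup.rank_two_simple hq
    haveI : IsSimpleGroup ↥N := e.isSimpleGroup_congr.mpr inferInstance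
    have h4N : 4 ∣ Nat.card N := by
      have h1 : 4 ∣ Nat.card N * N.index := by
        rw [N.card_mul_index]
        exact hkl.card_four ▸ Subgroup.card_subgroup_dvd_card (S : Subgroup ↥L)
      exact Nat.Coprime.dvd_of_dvd_mul_right
        ((Nat.coprime_two_left.mpr hNi).pow_left 2 : Nat.Coprime (2 ^ 2) N.index) h1
    have hnc : ¬ IsMulCommutative ↥N := by
      intro hc
      haveI := hc
      letI : CommGroup ↥N := { (inferInstance : Group ↥N) with mul_comm := mul_comm' }
      have hp : (Nat.card N).Prime := IsSimpleGroup.prime_card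
      exact absurd ((Nat.prime_dvd_prime_iff_eq Nat.prime_two hp).mp
        (dvd_trans (by norm_num) h4N)) (fun h => by rw [← h] at h4N; norm_num at h4N)
    have hZ : Subgroup.center ↥N = ⊥ := by
      rcases (inferInstance : (Subgroup.center ↥N).Normal).eq_bot_or_eq_top with h | h
      · exact h
      · exfalso
        exact hnc ⟨⟨fun a b => Subgroup.mem_center_iff.mp (h ▸ Subgroup.mem_top b) a⟩⟩
    have hCN := centralizer_eq_bot_of_odd hOL N hNi hZ
    set M := N.map L.subtype with hM
    haveI hMn : M.Normal := ⟨fun m hm g => by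
      obtain ⟨n, hn, rfl⟩ := hm
      let α : MulAut ↥L := MulAut.conjNormal g
      haveI : (N.map α.toMonoidHom).Normal :=
        Subgroup.Normal.map inferInstance _ α.surjective
      have h1 : N.map α.toMonoidHom = N := simple_normal_eq hCN
        (Nat.card_congr (N.equivMapOfInjective _ α.injective).toEquiv)
      exact ⟨α n, h1 ▸ Subgroup.mem_map_of_mem α.toMonoidHom hn, MulAut.conjNormal_apply g n⟩⟩
    let eM : ↥M ≃* ↥N := (N.equivMapOfInjective L.subtype L.subtype_injective).symm
    have hCM : Subgroup.centralizer (M : Set H) = ⊥ := hcent M hMn (Subgroup.map_subtype_le _) (by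
      rw [hM, Subgroup.subgroupOf, Subgroup.comap_map_eq_self_of_injective L.subtype_injective]
      exact hCN)
    refine Or.inr (Or.inr ⟨M, hMn, eM.isSimpleGroup_congr.mpr inferInstance, fun h => hnc ⟨⟨?_⟩⟩,
      hCM, F, iF, iFF, ?_, hF, ⟨eM.trans e⟩⟩)
    · intro a b
      apply eM.symm.injective
      rw [map_mul, map_mul]
      exact h.is_comm.comm _ _
    · rw [Nat.card_eq_fintype_card] at hq; omega

end Cfsg.Agent.CG26.HalfK2
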