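import Cfsg.Agent.CG26.HalfK2.Classes
import Cfsg.Agent.CG26.HalfK2.Four
import Cfsg.Agent.Lib.Transfer.Focal
import Cfsg.Agent.CISylow69.Local

/-!
# Groups in which the number of classes of `2`-elements is half the order of a Sylow `2`-subgroup
-/

set_option autoImplicit false
set_option linter.unusedSectionVars false
set_option linter.style.haveILetI false

namespace Cfsg.Agent.CG26.HalfK2

open scoped Pointwise commutatorElement

universe u

variable {G : Type u} [Group G] [Finite G] {P : Sylow 2 G}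

theorem card_map_mk (A : Subgroup G) [A.Normal] (K : Subgroup G) (hAK : A ≤ K) :
    Nat.card (K.map (QuotientGroup.mk' A)) * Nat.card A = Nat.card K := by
  rw [← Thompson.card_comap_quotient, Subgroup.comap_map_eq, QuotientGroup.ker_mk',
    sup_eq_left.mpr hAK]

theorem oddCore_bar (hO : Cfsg.pPrimeCore 2 G = ⊥) :
    Cfsg.pPrimeCore 2 (G ⧸ Subgroup.center G) = ⊥ := by
  haveI : Fact (Nat.Prime 2) := ⟨Nat.prime_two⟩
  exact CISylow69.oddCore_quotient_central (Subgroup.center G)
    ((default : Sylow 2 G).2.to_le (center_le hO default)) le_rfl hO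

theorem not_isPGroup_bar (hO : Cfsg.pPrimeCore 2 G = ⊥)
    (hk : 2 * k2 G = Nat.card ↥(P : Subgroup G)) : ¬ IsPGroup 2 (G ⧸ Subgroup.center G) := by
  haveI : Fact (Nat.Prime 2) := ⟨Nat.prime_two⟩
  intro h
  obtain ⟨a, ha⟩ := IsPGroup.iff_card.mp h
  obtain ⟨b, hb⟩ := IsPGroup.iff_card.mp (P.2.to_le (center_le hO P))
  refine not_isPGroup hk (IsPGroup.of_card (n := a + b) ?_)
  rw [Subgroup.card_eq_card_quotient_mul_card_subgroup (Subgroup.center G), ha, hb, pow_add]

theorem card_center_subgroupOf (hO : Cfsg.pPrimeCore 2 G = ⊥) (P : Sylow 2 G) :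
    Nat.card ((Subgroup.center G).subgroupOf (P : Subgroup G)) = Nat.card (Subgroup.center G) :=
  Nat.card_congr (Subgroup.subgroupOfEquivOfLe (center_le hO P)).toEquiv

theorem center_subgroupOf_le (P : Sylow 2 G) :
    (Subgroup.center G).subgroupOf (P : Subgroup G) ≤ Subgroup.center ↥(P : Subgroup G) :=
  fun _ hz => Subgroup.mem_center_iff.mpr fun b =>
    Subtype.ext (Subgroup.mem_center_iff.mp hz (b : G))

/-- With `P` abelian, `|P : Z(G)| ≤ 4`. -/
theorem card_le_of_commutative (hO : Cfsg.pPrimeCore 2 G = ⊥)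
    (hk : 2 * k2 G = Nat.card ↥(P : Subgroup G))
    (hcm : ∀ a b : ↥(P : Subgroup G), a * b = b * a) :
    Nat.card ↥(P : Subgroup G) ≤ 4 * Nat.card (Subgroup.center G) := by
  classical
  haveI : Fintype ↥(P : Subgroup G) := Fintype.ofFinite _
  haveI : Fintype (ConjClasses ↥(P : Subgroup G)) := Fintype.ofFinite _
  have hinj : Function.Injective
      (ConjClasses.mk : ↥(P : Subgroup G) → ConjClasses ↥(P : Subgroup G)) := fun a b h => by
    obtain ⟨g, rfl⟩ := isConj_iff.mp (ConjClasses.mk_eq_mk_iff_isConj.mp h)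
    rw [hcm g a, mul_inv_cancel_right]
  have hcen : ∀ a : ↥(P : Subgroup G), a ∈ Subgroup.center ↥(P : Subgroup G) :=
    fun a => Subgroup.mem_center_iff.mpr fun b => hcm b a
  set T := Finset.univ.filter fun x : ↥(P : Subgroup G) => (x : G) ∉ Subgroup.center G with hT
  set S := T.image ConjClasses.mk with hS
  have hScard : S.card = T.card := Finset.card_image_of_injective _ hinj
  have hTcard : Nat.card (Subgroup.center G) + T.card = Nat.card ↥(P : Subgroup G) := by
    rw [← card_center_subgroupOf hO P, Nat.card_eq_fintype_card (α := ↥(P : Subgroup G)),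
      ← Finset.card_univ, ← Finset.card_filter_add_card_filter_not (s := Finset.univ)
        (fun z : ↥(P : Subgroup G) => (z : G) ∈ Subgroup.center G)]
    congr 1
    rw [Nat.card_eq_fintype_card, Fintype.card_subtype]
    congr 1
    ext z
    simp [Subgroup.mem_subgroupOf]
  have hfib : ∀ y ∈ S.image (up P), 3 ≤ (S.filter fun C => up P C = y).card := by
    intro y hy
    obtain ⟨C, hC, rfl⟩ := Finset.mem_image.mp hy
    obtain ⟨x, hx, rfl⟩ := Finset.mem_image.mp hC
    have hxZ : (x : G) ∉ Subgroup.center G := (Finset.mem_filter.mp hx).2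
    obtain ⟨g, w, hg, hwx⟩ := exists_partner hO P (hcen x) hxZ
    obtain ⟨n, hn, hnx⟩ := exists_normalizer_conj x.2 w.2
      (fun a ha => congrArg Subtype.val (hcm ⟨a, ha⟩ x))
      (fun a ha => congrArg Subtype.val (hcm ⟨a, ha⟩ w)) hg
    obtain ⟨v, hv, hodd, s, hs, rfl⟩ := exists_odd_part hn
    set τ := tau P v hv with hτ
    have hτinj : Function.Injective τ := fun a b h => by
      have h1 := congrArg Subtype.val h
      rw [tau_coe, tau_coe] at h1
      exact Subtype.ext (mul_left_cancel (mul_right_cancel h1))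
    have h1 : τ x ≠ x := by
      intro e
      refine hwx (Subtype.ext ?_)
      have e' : v * (x : G) * v⁻¹ = x := congrArg Subtype.val e
      have e'' : s * (x : G) = (x : G) * s := congrArg Subtype.val (hcm ⟨s, hs⟩ x)
      calc (w : G) = s * v * x * (s * v)⁻¹ := hnx.symm
        _ = s * (v * x * v⁻¹) * s⁻¹ := by group
        _ = x := by rw [e', e'', mul_inv_cancel_right]
    have h2 : τ (τ x) ≠ x := by
      intro e
      have h2 : ∀ i, τ^[2 * i] x = x := fun i => by
        induction i with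
        | zero => rfl
        | succ i ih => rw [Nat.mul_succ, Function.iterate_add_apply]; simpa [e] using ih
      obtain ⟨j, hj⟩ := hodd
      have h3 : τ^[2 * j + 1] x = x := by
        apply Subtype.ext
        rw [hτ, map_tau_iterate, ← hj, pow_orderOf_eq_one, inv_one, one_mul, mul_one]
      rw [Function.iterate_succ_apply', h2] at h3
      exact h1 h3
    have h3 : τ (τ x) ≠ τ x := fun e => h1 (hτinj e)
    have hmem : ∀ z : ↥(P : Subgroup G), ConjClasses.mk (z : G) = ConjClasses.mk (x : G) →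
        ConjClasses.mk z ∈ S.filter fun C => up P C = up P (ConjClasses.mk x) := by
      intro z hz
      refine Finset.mem_filter.mpr ⟨Finset.mem_image_of_mem _ (Finset.mem_filter.mpr
        ⟨Finset.mem_univ _, fun hzc => hxZ ?_⟩), hz⟩
      obtain ⟨r, hr⟩ := isConj_iff.mp (ConjClasses.mk_eq_mk_iff_isConj.mp hz)
      rw [← hr, Subgroup.mem_center_iff.mp hzc r, mul_inv_cancel_right]
      exact hzc
    have hc1 : ConjClasses.mk ((τ x : ↥(P : Subgroup G)) : G) = ConjClasses.mk (x : G) :=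
      up_map_tau v hv (ConjClasses.mk x)
    have hc2 : ConjClasses.mk ((τ (τ x) : ↥(P : Subgroup G)) : G) = ConjClasses.mk (x : G) :=
      (up_map_tau v hv (ConjClasses.mk (τ x))).trans hc1
    have hsub : ({x, τ x, τ (τ x)} : Finset _).image ConjClasses.mk ⊆
        S.filter fun C => up P C = up P (ConjClasses.mk x) := by
      intro D hD
      obtain ⟨z, hz, rfl⟩ := Finset.mem_image.mp hD
      simp only [Finset.mem_insert, Finset.mem_singleton] at hz
      rcases hz with rfl | rfl | rfl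
      exacts [hmem _ rfl, hmem _ hc1, hmem _ hc2]
    refine le_trans (le_of_eq ?_) (Finset.card_le_card hsub)
    rw [Finset.card_image_of_injective _ hinj, Finset.card_insert_of_notMem, Finset.card_pair]
    · exact h3.symm
    · simp only [Finset.mem_insert, Finset.mem_singleton, not_or]
      exact ⟨h1.symm, h2.symm⟩
  have himg : 3 * (S.image (up P)).card ≤ S.card := by
    rw [Finset.card_eq_sum_card_image (up P) S, mul_comm]
    simpa using Finset.card_nsmul_le_sum _ _ 3 hfib
  have h1 := k2_add_le (P := P) S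
  have h2 := card_classes_of_commutative hcm
  omega

theorem concl_of_commutative (hKS : GW66.KleinStmt.{u}) (hO : Cfsg.pPrimeCore 2 G = ⊥)
    (hk : 2 * k2 G = Nat.card ↥(P : Subgroup G))
    (hcm : ∀ a b : ↥(P : Subgroup G), a * b = b * a) : Concl (G ⧸ Subgroup.center G) := by
  haveI : Fact (Nat.Prime 2) := ⟨Nat.prime_two⟩
  let Q : Sylow 2 (G ⧸ Subgroup.center G) :=
    P.mapSurjective (QuotientGroup.mk'_surjective (Subgroup.center G))
  have hQ : Nat.card ↥(Q : Subgroup (G ⧸ Subgroup.center G)) ≤ 4 := by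
    have h1 := card_map_mk (Subgroup.center G) (P : Subgroup G) (center_le hO P)
    have h2 := card_le_of_commutative hO hk hcm
    rw [← h1] at h2
    exact Nat.le_of_mul_le_mul_right h2 Nat.card_pos
  refine concl_of_four hKS (oddCore_bar hO) ⊤ (Q.subtype le_top) ?_ ?_ ?_ ?_
  · rw [Sylow.coe_subtype, Nat.card_congr (Subgroup.subgroupOfEquivOfLe le_top).toEquiv]
    exact hQ
  · exact fun h => not_isPGroup_bar hO hk (h.of_equiv Subgroup.topEquiv)
  · exact IsPGroup.of_card (n := 0) (by rw [← Subgroup.index_eq_card, Subgroup.index_top, pow_zero])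
  · intro C _ _ hC
    rwa [inf_top_eq] at hC

/-- Central elements of `P` are pairwise not fused when `|P'| = 2`. -/
theorem eq_of_central_fused (hk : 2 * k2 G = Nat.card ↥(P : Subgroup G))
    {c : ↥(P : Subgroup G)} (hc : DerTwo ↥(P : Subgroup G) c) {a b : ↥(P : Subgroup G)}
    (ha : a ∈ Subgroup.center ↥(P : Subgroup G)) (hb : b ∈ Subgroup.center ↥(P : Subgroup G))
    {g : G} (hg : g * (a : G) * g⁻¹ = b) : a = b := by
  have hA : ∀ z : G, z ∈ (P : Subgroup G) → z * a = a * z := fun z hz =>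
    congrArg Subtype.val (Subgroup.mem_center_iff.mp ha ⟨z, hz⟩)
  obtain ⟨n, hn, hna⟩ := exists_normalizer_conj a.2 b.2 hA
    (fun z hz => congrArg Subtype.val (Subgroup.mem_center_iff.mp hb ⟨z, hz⟩)) hg
  obtain ⟨v, hv, hodd, s, hs, rfl⟩ := exists_odd_part hn
  apply Subtype.ext
  calc (a : G) = s * a * s⁻¹ := by rw [hA s hs, mul_inv_cancel_right]
    _ = s * (v * a * v⁻¹) * s⁻¹ := by rw [odd_centralizes hk hc hv hodd a]
    _ = b := by rw [← hna]; group

/-- The involution generating `P'` is not central in `G`. -/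
theorem der_not_mem_center (hO : Cfsg.pPrimeCore 2 G = ⊥)
    (hk : 2 * k2 G = Nat.card ↥(P : Subgroup G)) {c : ↥(P : Subgroup G)}
    (hc : DerTwo ↥(P : Subgroup G) c) : (c : G) ∉ Subgroup.center G := by
  haveI : Fact (Nat.Prime 2) := ⟨Nat.prime_two⟩
  intro hcZ
  set q := QuotientGroup.mk' (Subgroup.center G)
  let Q : Sylow 2 (G ⧸ Subgroup.center G) :=
    P.mapSurjective (QuotientGroup.mk'_surjective (Subgroup.center G))
  have hmem : ∀ a : G, q a ∈ (P : Subgroup G).map q → a ∈ (P : Subgroup G) := by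
    rintro a ⟨b, hb, hab⟩
    have := mul_mem hb (center_le hO P (QuotientGroup.eq.mp hab))
    rwa [mul_inv_cancel_left] at this
  refine not_isPGroup_bar hO hk (isPGroup_of_complement (oddCore_bar hO) Q inferInstance
    (MonoidHom.ker_transferSylow_isComplement' Q ?_))
  intro y hy
  obtain ⟨n, rfl⟩ := QuotientGroup.mk'_surjective (Subgroup.center G) y
  have hn : n ∈ Subgroup.normalizer ((P : Subgroup G) : Set G) := by
    rw [Subgroup.mem_normalizer_iff_map_conj_eq]
    refine Subgroup.eq_of_le_of_card_ge ?_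
      (le_of_eq (Nat.card_congr (Subgroup.equivMapOfInjective _ _ (MulAut.conj n).injective).toEquiv))
    rintro _ ⟨w, hw, rfl⟩
    refine hmem _ ?_
    have h1 := (Subgroup.mem_normalizer_iff.mp hy (q w)).mp (Subgroup.mem_map_of_mem q hw)
    rw [← map_inv, ← map_mul, ← map_mul] at h1
    exact h1
  obtain ⟨v, hv, hodd, s, hs, rfl⟩ := exists_odd_part hn
  rw [Subgroup.mem_centralizer_iff]
  rintro _ ⟨w, hw, rfl⟩
  show q w * q (s * v) = q (s * v) * q w
  rw [← map_mul, ← map_mul]
  refine QuotientGroup.eq.mpr ?_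
  have hv' : v * w = w * v := mul_inv_eq_iff_eq_mul.mp (odd_centralizes hk hc hv hodd ⟨w, hw⟩)
  have hcomm : w⁻¹ * s⁻¹ * (w⁻¹)⁻¹ * (s⁻¹)⁻¹ ∈ Subgroup.center G := by
    rcases hc.mem (⟨w, hw⟩ : ↥(P : Subgroup G))⁻¹ ⟨s, hs⟩⁻¹ with h | h <;>
      replace h := congrArg Subtype.val h
    · simp only [Subgroup.coe_mul, Subgroup.coe_inv, OneMemClass.coe_one] at h
      rw [h]; exact one_mem _
    · simp only [Subgroup.coe_mul, Subgroup.coe_inv] at h
      rw [h]; exact hcZ
  have : (w * (s * v))⁻¹ * (s * v * w) = v⁻¹ * (s⁻¹ * w⁻¹ * s * w) * v := by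
    calc (w * (s * v))⁻¹ * (s * v * w) = v⁻¹ * s⁻¹ * w⁻¹ * s * (v * w) := by group
      _ = v⁻¹ * (s⁻¹ * w⁻¹ * s * w) * v := by rw [hv']; group
  rw [this]
  have h2 : s⁻¹ * w⁻¹ * s * w ∈ Subgroup.center G := by
    have h3 := inv_mem hcomm
    rwa [show (w⁻¹ * s⁻¹ * (w⁻¹)⁻¹ * (s⁻¹)⁻¹)⁻¹ = s⁻¹ * w⁻¹ * s * w by group] at h3
  have h4 := (inferInstance : (Subgroup.center G).Normal).conj_mem _ h2 v⁻¹
  rwa [inv_inv] at h4

theorem concl_of_derTwo (hKS : GW66.KleinStmt.{u}) (hO : Cfsg.pPrimeCore 2 G = ⊥)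
    (hk : 2 * k2 G = Nat.card ↥(P : Subgroup G)) {c : ↥(P : Subgroup G)}
    (hc : DerTwo ↥(P : Subgroup G) c) : Concl (G ⧸ Subgroup.center G) := by
  classical
  haveI : Fact (Nat.Prime 2) := ⟨Nat.prime_two⟩
  haveI : Fintype ↥(P : Subgroup G) := Fintype.ofFinite _
  haveI : Fintype (ConjClasses ↥(P : Subgroup G)) := Fintype.ofFinite _
  set ZP := Subgroup.center ↥(P : Subgroup G) with hZP
  set ZG := (Subgroup.center G).subgroupOf (P : Subgroup G) with hZG
  have hcZ := der_not_mem_center hO hk hc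
  set Sp := Finset.univ.filter fun z : ↥(P : Subgroup G) => z ∈ ZP ∧ z ∉ ZG with hSp
  have hSpcard : Nat.card (Subgroup.center G) + Sp.card = Nat.card ZP := by
    rw [← card_center_subgroupOf hO P, ← hZG, Nat.card_eq_fintype_card (α := ZG),
      Nat.card_eq_fintype_card (α := ZP), Fintype.card_subtype, Fintype.card_subtype,
      ← Finset.card_union_of_disjoint]
    · congr 1
      ext z
      simp only [hSp, Finset.mem_union, Finset.mem_filter, Finset.mem_univ, true_and]
      refine ⟨fun h => h.elim (fun h => center_subgroupOf_le P h) And.left, fun h => ?_⟩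
      by_cases hz : z ∈ ZG
      · exact Or.inl hz
      · exact Or.inr ⟨h, hz⟩
    · exact Finset.disjoint_left.mpr fun z hz hz' =>
        (Finset.mem_filter.mp hz').2.2 (Finset.mem_filter.mp hz).2
  set S₀ := Sp.image ConjClasses.mk with hS₀
  have hcls : ∀ {z w : ↥(P : Subgroup G)}, z ∈ ZP → ConjClasses.mk z = ConjClasses.mk w → w = z := by
    intro z w hz h
    obtain ⟨g, rfl⟩ := isConj_iff.mp (ConjClasses.mk_eq_mk_iff_isConj.mp h)
    rw [Subgroup.mem_center_iff.mp hz g, mul_inv_cancel_right]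
  have hS₀mem : ∀ z, ConjClasses.mk z ∈ S₀ → z ∈ Sp := fun z hz => by
    obtain ⟨z', hz', h⟩ := Finset.mem_image.mp hz
    rwa [hcls (Finset.mem_filter.mp hz').2.1 h]
  have hS₀card : S₀.card = Sp.card := Finset.card_image_of_injOn fun a ha b _ h =>
    (hcls (Finset.mem_filter.mp ha).2.1 h).symm
  set U := (Finset.univ : Finset (ConjClasses ↥(P : Subgroup G))) \ S₀ with hU
  have hUcard : U.card + S₀.card = Nat.card (ConjClasses ↥(P : Subgroup G)) := by
    rw [hU, Finset.card_sdiff_add_card_eq_card (Finset.subset_univ S₀), Finset.card_univ,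
      Nat.card_eq_fintype_card]
  have himg : Finset.univ.image (up P) ⊆ U.image (up P) := by
    intro y hy
    obtain ⟨C, -, rfl⟩ := Finset.mem_image.mp hy
    by_cases hC : C ∈ S₀
    · obtain ⟨z, hz, rfl⟩ := Finset.mem_image.mp hC
      obtain ⟨hzc, hzZ⟩ := (Finset.mem_filter.mp hz).2
      obtain ⟨g, w, hg, hwz⟩ := exists_partner hO P hzc hzZ
      refine Finset.mem_image.mpr ⟨ConjClasses.mk w, Finset.mem_sdiff.mpr ⟨Finset.mem_univ _,
        fun h => hwz ?_⟩, (ConjClasses.mk_eq_mk_iff_isConj.mpr (isConj_iff.mpr ⟨g, hg⟩)).symm⟩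
      exact (eq_of_central_fused hk hc hzc (Finset.mem_filter.mp (hS₀mem w h)).2.1 hg).symm
    · exact Finset.mem_image_of_mem _ (Finset.mem_sdiff.mpr ⟨Finset.mem_univ _, hC⟩)
  have hk2 : k2 G ≤ (U.image (up P)).card := by
    have h1 := k2_add_le (P := P) Finset.univ
    have h2 := Finset.card_le_card himg
    rw [Finset.card_univ, Nat.card_eq_fintype_card] at h1
    omega
  have hcount := hc.two_mul_card_classes
  have h4 := hc.four_mul_center_le P.2
  have himgle : (U.image (up P)).card ≤ U.card := Finset.card_image_le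
  rw [← hZP] at hcount h4
  -- `c z` for `z ∈ Z(G)` are all the fused central elements
  set Cz := (Finset.univ.filter fun z : ↥(P : Subgroup G) => z ∈ ZG).image (c * ·) with hCz
  have hCzSp : Cz ⊆ Sp := by
    intro a ha
    obtain ⟨z, hz, rfl⟩ := Finset.mem_image.mp ha
    have hz' := (Finset.mem_filter.mp hz).2
    exact Finset.mem_filter.mpr ⟨Finset.mem_univ _, ZP.mul_mem hc.central (center_subgroupOf_le P hz'),
      fun h => hcZ ((ZG.mul_mem_cancel_right hz').mp h)⟩
  have hCzcard : Cz.card = Nat.card (Subgroup.center G) := by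
    rw [hCz, Finset.card_image_of_injective _ (mul_right_injective c),
      ← card_center_subgroupOf hO P, ← hZG, Nat.card_eq_fintype_card, Fintype.card_subtype]
  have hCzle := Finset.card_le_card hCzSp
  have hZeq : Nat.card ZP = 2 * Nat.card (Subgroup.center G) := by omega
  have hSpeq : Cz = Sp := Finset.eq_of_subset_of_card_le hCzSp (by omega)
  have hinjU : Set.InjOn (up P) ↑U := Finset.card_image_iff.mp (by omega)
  -- the partner of `c`
  obtain ⟨g₀, y, hg₀, hyc⟩ := exists_partner hO P hc.central hcZ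
  have hyZ : y ∉ ZP := fun h => hyc (eq_of_central_fused hk hc hc.central h hg₀).symm
  have hyord : orderOf y = 2 := by
    rw [← Subgroup.orderOf_coe, ← hg₀]
    refine (MulEquiv.orderOf_eq (MulAut.conj g₀) (c : G)).trans ?_
    rw [Subgroup.orderOf_coe]
    exact orderOf_eq_prime (by rw [pow_two, hc.sq]) hc.ne
  set M := ZP ⊔ Subgroup.zpowers y with hM
  have hZM : ZP ≤ M := le_sup_left
  have hcM : c ∈ M := hZM hc.central
  have hyM : y ∈ M := Subgroup.mem_sup_right (Subgroup.mem_zpowers y)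
  have hMcard : Nat.card M ≤ 4 * Nat.card (Subgroup.center G) := by
    haveI : ZP.Normal := inferInstanceAs (Subgroup.center _).Normal
    have h1 := Nat.le_of_dvd (Nat.mul_pos Nat.card_pos Nat.card_pos)
      (Thompson.card_sup_dvd_mul (Subgroup.zpowers y) ZP)
    rw [sup_comm, Nat.card_zpowers, hyord, hZeq, ← hM] at h1
    omega
  -- fused elements lie in the same coset of `M`
  have hkey₀ : ∀ a b : ↥(P : Subgroup G), ConjClasses.mk (a : G) = ConjClasses.mk (b : G) →
      ConjClasses.mk b ∉ S₀ → a * b⁻¹ ∈ M := by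
    intro a b hab hb
    by_cases ha : ConjClasses.mk a ∈ S₀
    · have ha' : a ∈ Cz := hSpeq ▸ hS₀mem a ha
      obtain ⟨z, hz, rfl⟩ := Finset.mem_image.mp ha'
      have hzG : (z : G) ∈ Subgroup.center G := (Finset.mem_filter.mp hz).2
      have hzP := center_subgroupOf_le P (Finset.mem_filter.mp hz).2
      have hyz : ConjClasses.mk (y * z) ∉ S₀ := fun h => hyZ
        ((ZP.mul_mem_cancel_right hzP).mp (Finset.mem_filter.mp (hS₀mem _ h)).2.1)
      have hconj : ConjClasses.mk ((y * z : ↥(P : Subgroup G)) : G) = ConjClasses.mk (b : G) := by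
        rw [← hab]
        refine (ConjClasses.mk_eq_mk_iff_isConj.mpr (isConj_iff.mpr ⟨g₀, ?_⟩)).symm
        rw [Subgroup.coe_mul, Subgroup.coe_mul, ← hg₀]
        calc g₀ * ((c : G) * z) * g₀⁻¹ = g₀ * c * ((z : G) * g₀⁻¹) := by group
          _ = g₀ * c * g₀⁻¹ * z := by rw [← Subgroup.mem_center_iff.mp hzG g₀⁻¹]; group
      have h1 : ConjClasses.mk (y * z) = ConjClasses.mk b := hinjU
        (Finset.mem_coe.mpr (Finset.mem_sdiff.mpr ⟨Finset.mem_univ _, hyz⟩))
        (Finset.mem_coe.mpr (Finset.mem_sdiff.mpr ⟨Finset.mem_univ _, hb⟩)) hconj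
      have hbM : b ∈ M := by
        rcases hc.eq_or_of_mk_eq h1 with h | h <;> rw [h]
        · exact M.mul_mem hyM (hZM hzP)
        · exact M.mul_mem hcM (M.mul_mem hyM (hZM hzP))
      exact M.mul_mem (M.mul_mem hcM (hZM hzP)) (M.inv_mem hbM)
    · have h1 : ConjClasses.mk a = ConjClasses.mk b := hinjU
        (Finset.mem_coe.mpr (Finset.mem_sdiff.mpr ⟨Finset.mem_univ _, ha⟩))
        (Finset.mem_coe.mpr (Finset.mem_sdiff.mpr ⟨Finset.mem_univ _, hb⟩)) hab
      rcases hc.eq_or_of_mk_eq h1 with h | h <;> rw [h]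
      · rw [mul_inv_cancel]; exact M.one_mem
      · rw [mul_inv_rev, mul_inv_cancel_left]; exact M.inv_mem hcM
  have hkey : ∀ a b : ↥(P : Subgroup G), ConjClasses.mk (a : G) = ConjClasses.mk (b : G) →
      a * b⁻¹ ∈ M := by
    intro a b hab
    by_cases hb : ConjClasses.mk b ∈ S₀
    · by_cases ha : ConjClasses.mk a ∈ S₀
      · obtain ⟨g, hg⟩ := isConj_iff.mp (ConjClasses.mk_eq_mk_iff_isConj.mp hab)
        rw [eq_of_central_fused hk hc (Finset.mem_filter.mp (hS₀mem a ha)).2.1
          (Finset.mem_filter.mp (hS₀mem b hb)).2.1 hg, mul_inv_cancel]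
        exact M.one_mem
      · have h1 := M.inv_mem (hkey₀ b a hab.symm ha)
        rwa [mul_inv_rev, inv_inv] at h1
    · exact hkey₀ a b hab hb
  -- the normal subgroup
  set M' := M.map (P : Subgroup G).subtype with hM'
  have hM'P : M' ≤ (P : Subgroup G) := Subgroup.map_subtype_le M
  have hZGM' : Subgroup.center G ≤ M' := fun z hz =>
    ⟨⟨z, center_le hO P hz⟩, hZM (center_subgroupOf_le P hz), rfl⟩
  have hfoc : (P : Subgroup G) ⊓ Cfsg.pResidual 2 G ≤ M' := by
    refine (Transfer.sylow_inf_pResidual_le_focalSubgroup P).trans ?_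
    rw [Subgroup.focalSubgroup_def, Subgroup.closure_le]
    rintro w ⟨hw, x, hx, u', rfl⟩
    have hy : u' * x * u'⁻¹ ∈ (P : Subgroup G) := by
      have h1 := (P : Subgroup G).inv_mem ((P : Subgroup G).mul_mem ((P : Subgroup G).inv_mem hx) hw)
      simpa [commutatorElement_def, mul_assoc] using h1
    refine ⟨⟨x, hx⟩ * ⟨_, hy⟩⁻¹, hkey _ _
      (ConjClasses.mk_eq_mk_iff_isConj.mpr (isConj_iff.mpr ⟨u', rfl⟩)), ?_⟩
    rw [Subgroup.subtype_apply, Subgroup.coe_mul, Subgroup.coe_inv, commutatorElement_def]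
    group
  set L₀ := Cfsg.pResidual 2 G
  set L := M' ⊔ L₀ with hL
  have hLP : ∀ w ∈ (P : Subgroup G), w ∈ L → w ∈ M' := by
    intro w hwP hwL
    obtain ⟨m, hm, l, hl, rfl⟩ := Subgroup.mem_sup_of_normal_right.mp hwL
    have hlP : l ∈ (P : Subgroup G) := ((P : Subgroup G).mul_mem_cancel_left (hM'P hm)).mp hwP
    exact M'.mul_mem hm (hfoc ⟨hlP, hl⟩)
  haveI hLn : L.Normal := by
    rw [← Subgroup.normalizer_eq_top_iff, eq_top_iff, ← Transfer.sylow_sup_pResidual_eq_top P]
    refine sup_le (fun a ha => ?_) (le_sup_right.trans Subgroup.le_normalizer)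
    rw [Subgroup.mem_normalizer_iff_map_conj_eq]
    refine Subgroup.eq_of_le_of_card_ge ?_
      (le_of_eq (Nat.card_congr (Subgroup.equivMapOfInjective _ _ (MulAut.conj a).injective).toEquiv))
    rw [hL, Subgroup.map_sup]
    refine sup_le ?_ ?_
    · rintro _ ⟨_, ⟨m, hm, rfl⟩, rfl⟩
      refine Subgroup.mem_sup_left ⟨⟨a, ha⟩ * m * ⟨a, ha⟩⁻¹, ?_, rfl⟩
      rcases hc.conj_cases ⟨a, ha⟩ m with h | h <;> rw [h]
      · exact hm
      · exact M.mul_mem hcM hm
    · rintro _ ⟨l, hl, rfl⟩
      exact Subgroup.mem_sup_right ((inferInstance : L₀.Normal).conj_mem l hl a)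
  set q := QuotientGroup.mk' (Subgroup.center G) with hq
  have hqs : Function.Surjective q := QuotientGroup.mk'_surjective _
  haveI : (L.map q).Normal := hLn.map q hqs
  let Q : Sylow 2 (G ⧸ Subgroup.center G) := P.mapSurjective hqs
  have hidx : IsPGroup 2 ((G ⧸ Subgroup.center G) ⧸ L.map q) :=
    Transfer.isPGroup_quotient_of_pResidual_le (by
      rw [← Transfer.map_pResidual_of_surjective q hqs]
      exact Subgroup.map_mono le_sup_right)
  have hnpL : ¬ IsPGroup 2 (L.map q) := by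
    intro h
    obtain ⟨i, hi⟩ := IsPGroup.iff_card.mp h
    obtain ⟨j, hj⟩ := IsPGroup.iff_card.mp hidx
    refine not_isPGroup_bar hO hk (IsPGroup.of_card (n := j + i) ?_)
    rw [Subgroup.card_eq_card_quotient_mul_card_subgroup (L.map q), hi, hj, pow_add]
  obtain ⟨T, hT⟩ := Transfer.exists_sylow_subgroupOf_normal Q (L.map q)
  have hT4 : Nat.card ↥(T : Subgroup (L.map q)) ≤ 4 := by
    rw [hT, ← Subgroup.inf_subgroupOf_right,
      Nat.card_congr (Subgroup.subgroupOfEquivOfLe inf_le_right).toEquiv]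
    refine (Subgroup.card_le_of_le (K := M'.map q) ?_).trans ?_
    · rintro _ ⟨⟨a, ha, rfl⟩, ⟨l, hl, hla⟩⟩
      have h1 : l⁻¹ * a ∈ Subgroup.center G := QuotientGroup.eq.mp hla
      have haL : a ∈ L := by
        have := L.mul_mem hl (Subgroup.mem_sup_left (hZGM' h1) : l⁻¹ * a ∈ L)
        rwa [mul_inv_cancel_left] at this
      exact Subgroup.mem_map_of_mem q (hLP a ha haL)
    · refine Nat.le_of_mul_le_mul_right ?_ (Nat.card_pos (α := Subgroup.center G))
      rw [hq, card_map_mk (Subgroup.center G) M' hZGM', hM',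
        Subgroup.card_map_of_injective (P : Subgroup G).subtype_injective]
      exact hMcard
  refine concl_of_four hKS (oddCore_bar hO) (L.map q) T hT4 hnpL hidx ?_
  intro C hCn hC2 hCL
  have hqc : q c ∈ L.map q :=
    Subgroup.mem_map_of_mem q (Subgroup.mem_sup_left (Subgroup.mem_map_of_mem _ hcM))
  rw [eq_bot_iff]
  intro x hx
  have hxQ : x ∈ (Q : Subgroup (G ⧸ Subgroup.center G)) := hC2.le_sylow_of_normal Q hx
  obtain ⟨a, ha, rfl⟩ := hxQ
  have haZ : (⟨a, ha⟩ : ↥(P : Subgroup G)) ∈ ZP := Subgroup.mem_center_iff.mpr fun b => by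
    rcases hc.mem b ⟨a, ha⟩ with h | h
    · exact mul_inv_eq_iff_eq_mul.mp (mul_inv_eq_one.mp h)
    · exfalso
      have h1 : q c ∈ C := by
        rw [← h]
        simp only [Subgroup.coe_mul, Subgroup.coe_inv, map_mul, map_inv]
        exact C.mul_mem (hCn.conj_mem _ hx _) (C.inv_mem hx)
      have h2 : q c ∈ C ⊓ L.map q := ⟨h1, hqc⟩
      rw [hCL, Subgroup.mem_bot, hq, QuotientGroup.mk'_apply, QuotientGroup.eq_one_iff] at h2
      exact hcZ h2
  have hxL : q a ∈ L.map q :=
    Subgroup.mem_map_of_mem q (Subgroup.mem_sup_left ⟨⟨a, ha⟩, hZM haZ, rfl⟩)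
  exact hCL ▸ (⟨hx, hxL⟩ : q a ∈ C ⊓ L.map q)

/-- The theorem, modulo Gorenstein–Walter for a four-group. -/
theorem main (hKS : GW66.KleinStmt.{u}) (P : Sylow 2 G) (hO : Cfsg.pPrimeCore 2 G = ⊥)
    (hk : 2 * k2 G = Nat.card ↥(P : Subgroup G)) : Concl (G ⧸ Subgroup.center G) := by
  rcases commutative_or_derTwo hk with hcm | ⟨c, hc⟩
  · exact concl_of_commutative hKS hO hk hcm
  · exact concl_of_derTwo hKS hO hk hc

end Cfsg.Agent.CG26.HalfK2
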